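import Groth.Agent.PropsBasic.AmpleBasis
import Groth.Agent.PropsBasic.AmpleSep
import Mathlib.AlgebraicGeometry.Morphisms.Flat
import Mathlib.RingTheory.TensorProduct.Pi

/-!
Descent of ampleness along a faithfully flat extension of an affine base.
-/

set_option autoImplicit false
set_option linter.style.haveILetI false
set_option backward.isDefEq.respectTransparency false

universe u

open CategoryTheory CategoryTheory.Limits AlgebraicGeometry TopologicalSpace Opposite TensorProduct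
open Groth.PicAux Groth.PropsBasic.Ample

namespace Groth.FBaseGeom.AmpleDesc

variable {X X' Y Y' : Scheme.{u}} [X.Over Y]

/-- Functions on opens as algebras over the functions on the base. -/
noncomputable local instance secAlgebra (U : X.Opens) : Algebra Γ(Y, ⊤) Γ(X, U) :=
  ((X ↘ Y).appLE ⊤ U le_top).hom.toAlgebra

variable {g : Y' ⟶ Y} {p : X' ⟶ X} {q' : X' ⟶ Y'} (H : IsPullback p q' (X ↘ Y) g)

/-- The functions on the base of the cover as an algebra over those on the base. -/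
noncomputable abbrev topAlgebra (g : Y' ⟶ Y) : Algebra Γ(Y, ⊤) Γ(Y', ⊤) :=
  (g.appLE ⊤ ⊤ le_top).hom.toAlgebra

/-- The comparison map `A' ⊗_A Γ(U) → Γ(p⁻¹U)`. -/
noncomputable def cmp (U : X.Opens) : letI := topAlgebra g
    Γ(Y', ⊤) ⊗[Γ(Y, ⊤)] Γ(X, U) →+* Γ(X', p ⁻¹ᵁ U) :=
  letI := topAlgebra g
  ((CommRingCat.isPushout_tensorProduct Γ(Y, ⊤) Γ(Y', ⊤) Γ(X, U)).flip.desc
    (p.app U) (q'.appLE ⊤ (p ⁻¹ᵁ U) le_top) (by
      show (X ↘ Y).appLE ⊤ U le_top ≫ p.app U = g.appLE ⊤ ⊤ le_top ≫ q'.appLE ⊤ (p ⁻¹ᵁ U) le_top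
      rw [← Scheme.Hom.appLE_eq_app, Scheme.Hom.appLE_comp_appLE, Scheme.Hom.appLE_comp_appLE]
      simp only [H.w])).hom

theorem cmp_tmul (U : X.Opens) (a : Γ(Y', ⊤)) (r : Γ(X, U)) :
    letI := topAlgebra g
    cmp H U (a ⊗ₜ r) = q'.appLE ⊤ (p ⁻¹ᵁ U) le_top a * p.app U r := by
  letI := topAlgebra g
  let P := (CommRingCat.isPushout_tensorProduct Γ(Y, ⊤) Γ(Y', ⊤) Γ(X, U)).flip
  have hw : (X ↘ Y).appLE ⊤ U le_top ≫ p.app U = g.appLE ⊤ ⊤ le_top ≫ q'.appLE ⊤ (p ⁻¹ᵁ U) le_top := by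
    rw [← Scheme.Hom.appLE_eq_app, Scheme.Hom.appLE_comp_appLE, Scheme.Hom.appLE_comp_appLE]
    simp only [H.w]
  have h1 : cmp H U (a ⊗ₜ 1) = q'.appLE ⊤ (p ⁻¹ᵁ U) le_top a :=
    congr($(P.inr_desc (p.app U) (q'.appLE ⊤ (p ⁻¹ᵁ U) le_top) hw) a)
  have h2 : cmp H U (1 ⊗ₜ r) = p.app U r :=
    congr($(P.inl_desc (p.app U) (q'.appLE ⊤ (p ⁻¹ᵁ U) le_top) hw) r)
  rw [← h1, ← h2, ← map_mul, Algebra.TensorProduct.tmul_mul_tmul, mul_one, one_mul]

theorem res_cmp {U V : X.Opens} (h : V ≤ U) :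
    letI := topAlgebra g
    ∀ (f : Γ(X, U) →ₗ[Γ(Y, ⊤)] Γ(X, V)), (∀ r, f r = X.presheaf.map (homOfLE h).op r) →
      ∀ z, cmp H V (f.lTensor Γ(Y', ⊤) z) =
        X'.presheaf.map (homOfLE (p.preimage_mono h)).op (cmp H U z) := by
  letI := topAlgebra g
  intro f hf z
  induction z using TensorProduct.induction_on with
  | zero => simp
  | add a b ha hb => simp only [map_add, ha, hb]
  | tmul a r =>
    rw [LinearMap.lTensor_tmul, cmp_tmul, cmp_tmul, map_mul, hf]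
    congr 1
    · exact congr($((q'.appLE_map (U := ⊤) le_top (homOfLE (p.preimage_mono h)).op).symm) a)
    · exact congr($(p.naturality (homOfLE h).op) r)

theorem mono_or_iso_aux (U : X.Opens) :
    letI := topAlgebra g
    CommRingCat.ofHom (cmp H U) =
      (CommRingCat.isPushout_tensorProduct Γ(Y, ⊤) Γ(Y', ⊤) Γ(X, U)).flip.isoPushout.hom ≫
        pushoutSection H (US := ⊤) (UT := ⊤) (UX := U) (UY := p ⁻¹ᵁ U) le_top le_top (by simp) := by
  letI := topAlgebra g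
  refine (CommRingCat.isPushout_tensorProduct Γ(Y, ⊤) Γ(Y', ⊤) Γ(X, U)).flip.hom_ext ?_ ?_
  · rw [IsPushout.inl_isoPushout_hom_assoc, pushout.inl_desc, Scheme.Hom.appLE_eq_app]
    exact IsPushout.inl_desc _ _ _ _
  · rw [IsPushout.inr_isoPushout_hom_assoc, pushout.inr_desc]
    exact IsPushout.inr_desc _ _ _ _

variable [IsAffine Y] [IsAffine Y']

theorem cmp_bijective {U : X.Opens} (hU : IsAffineOpen U) :
    Function.Bijective (cmp H U) := by
  letI := topAlgebra g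
  haveI := isIso_pushoutSection_of_isAffineOpen H (US := ⊤) (UT := ⊤) (UX := U) (UY := p ⁻¹ᵁ U)
    le_top le_top (by simp) (isAffineOpen_top _) (isAffineOpen_top _) hU
  have : IsIso (CommRingCat.ofHom (cmp H U)) := by rw [mono_or_iso_aux]; infer_instance
  exact ConcreteCategory.bijective_of_isIso (CommRingCat.ofHom (cmp H U))

variable [Flat g]

theorem cmp_injective {U : X.Opens} (hU : IsCompact (U : Set X)) :
    Function.Injective (cmp H U) := by
  letI := topAlgebra g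
  haveI := mono_pushoutSection_of_isCompact_of_flat_right H (US := ⊤) (UT := ⊤) (UX := U) (UY := p ⁻¹ᵁ U)
    le_top le_top (by simp) (isAffineOpen_top _) (isAffineOpen_top _) hU
  have : Mono (CommRingCat.ofHom (cmp H U)) := by rw [mono_or_iso_aux]; infer_instance
  exact (ConcreteCategory.mono_iff_injective_of_preservesPullback _).mp this

omit [IsAffine Y] [IsAffine Y'] [Flat g] in
theorem basicOpen_add_le {U : X.Opens} (a b : Γ(X, U)) :
    X.basicOpen (a + b) ≤ X.basicOpen a ⊔ X.basicOpen b := by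
  intro x hx
  have hxU : x ∈ U := X.basicOpen_le _ hx
  rw [Scheme.mem_basicOpen X _ x hxU, map_add] at hx
  rcases IsLocalRing.isUnit_or_isUnit_of_isUnit_add hx with h | h
  · exact Or.inl ((Scheme.mem_basicOpen X _ x hxU).mpr h)
  · exact Or.inr ((Scheme.mem_basicOpen X _ x hxU).mpr h)

/-- The functions on `U` that vanish outside `O`. -/
def vanIdeal (O U : X.Opens) : Ideal Γ(X, U) where
  carrier := {r | X.basicOpen r ≤ O}
  zero_mem' := by simp
  add_mem' := fun ha hb => (basicOpen_add_le _ _).trans (sup_le ha hb)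
  smul_mem' := fun c r hr => by
    show X.basicOpen (c * r) ≤ O
    rw [Scheme.basicOpen_mul]
    exact inf_le_right.trans hr

omit [X.Over Y] [IsAffine Y] [IsAffine Y'] [Flat g] in
theorem mem_radical_map_vanIdeal (p : X' ⟶ X) {O U : X.Opens} (hU : IsAffineOpen U)
    (hU' : IsAffineOpen (p ⁻¹ᵁ U)) (c : Γ(X', p ⁻¹ᵁ U)) (hc : X'.basicOpen c ≤ p ⁻¹ᵁ O) :
    c ∈ ((vanIdeal O U).map (p.app U).hom).radical := by
  rw [Ideal.radical_eq_sInf, Submodule.mem_sInf]
  rintro P ⟨hP, hPp⟩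
  by_contra hcP
  let x' : X' := hU'.fromSpec ⟨P, hPp⟩
  have hx'U : x' ∈ p ⁻¹ᵁ U := hU'.opensRange_fromSpec.le ⟨_, rfl⟩
  have hmem : ∀ d : Γ(X', p ⁻¹ᵁ U), x' ∈ X'.basicOpen d ↔ d ∉ P := fun d => by
    show (⟨P, hPp⟩ : PrimeSpectrum _) ∈ hU'.fromSpec ⁻¹ᵁ X'.basicOpen d ↔ _
    rw [IsAffineOpen.fromSpec_preimage_basicOpen]
    exact Iff.rfl
  obtain ⟨r, hr, hxr⟩ := hU.exists_basicOpen_le (V := O) ⟨p x', hc ((hmem c).mpr hcP)⟩ hx'U
  have h : x' ∈ X'.basicOpen (p.app U r) := by rw [← Scheme.preimage_basicOpen]; exact hxr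
  exact (hmem _).mp h (hP (Ideal.mem_map_of_mem _ hr))

set_option maxHeartbeats 1600000 in
include H in
/-- A section of the pullback whose coefficients lie in the extended ideals is detected by sections
downstairs with coefficients in the ideals. -/
theorem exists_coeff_mem [QuasiSeparatedSpace X] (M : X.Modules) {ι : Type u} [Finite ι]
    (U : ι → X.Opens) (hU : ∀ i, IsAffineOpen (U i)) (hcov : ⨆ i, U i = ⊤)
    (e : ∀ i, Γ(M, U i)) (he : ∀ i, Gen M (U i) (e i)) (I : ∀ i, Ideal Γ(X, U i))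
    (t : Γ((Scheme.Modules.pullback p).obj M, ⊤)) (c : ∀ i, Γ(X', p ⁻¹ᵁ U i))
    (hc : ∀ i, res _ (le_top : p ⁻¹ᵁ U i ≤ ⊤) t = c i • pullSec p M (e i))
    (hcI : ∀ i, c i ∈ (I i).map (p.app (U i)).hom)
    {i₀ : ι} {x' : X'} (hx' : x' ∈ X'.basicOpen (c i₀)) :
    ∃ (s : Γ(M, ⊤)) (r : ∀ i, Γ(X, U i)), (∀ i, r i ∈ I i ∧ res M le_top s = r i • e i) ∧
      p x' ∈ X.basicOpen (r i₀) := by
  classical
  cases nonempty_fintype ι
  letI := topAlgebra g
  haveI : Module.Flat Γ(Y, ⊤) Γ(Y', ⊤) :=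
    (HasRingHomProperty.appLE @Flat g inferInstance ⟨⊤, isAffineOpen_top _⟩ ⟨⊤, isAffineOpen_top _⟩ le_top)
  -- transition functions
  have hu : ∀ i j, ∃ u : Γ(X, U i ⊓ U j),
      res M (inf_le_left : U i ⊓ U j ≤ U i) (e i) = u • res M inf_le_right (e j) :=
    fun i j => (he j).exists_coeff inf_le_right _
  choose u hu using hu
  let rs : ∀ {V W : X.Opens} (_ : V ≤ W), Γ(X, W) →ₗ[Γ(Y, ⊤)] Γ(X, V) := fun {V W} h =>
    { toFun := fun r => X.presheaf.map (homOfLE h).op r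
      map_add' := map_add _
      map_smul' := fun a r => by
        rw [RingHom.id_apply, Algebra.smul_def, Algebra.smul_def, map_mul]
        exact congrArg (· * _) congr($((X ↘ Y).appLE_map (U := ⊤) le_top (homOfLE h).op) a) }
  -- coefficients and the cocycle map
  let Ic : ι → Submodule Γ(Y, ⊤) (∀ i, Γ(X, U i)) := fun i =>
    ((I i).restrictScalars Γ(Y, ⊤)).comap (LinearMap.proj i)
  let P : Submodule Γ(Y, ⊤) (∀ i, Γ(X, U i)) := ⨅ i, Ic i
  let Ψ : P →ₗ[Γ(Y, ⊤)] ∀ ij : ι × ι, Γ(X, U ij.1 ⊓ U ij.2) := LinearMap.pi fun ij =>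
    (LinearMap.mulLeft Γ(Y, ⊤) (u ij.1 ij.2) ∘ₗ rs inf_le_left ∘ₗ LinearMap.proj ij.1 ∘ₗ P.subtype) -
      rs inf_le_right ∘ₗ LinearMap.proj ij.2 ∘ₗ P.subtype
  let π : ∀ i, P →ₗ[Γ(Y, ⊤)] Γ(X, U i) := fun i => LinearMap.proj i ∘ₗ P.subtype
  -- lift the coefficients
  have hlift : ∀ i, ∃ w : Γ(Y', ⊤) ⊗[Γ(Y, ⊤)] P, (∀ j, j ≠ i → cmp H (U j) ((π j).lTensor _ w) = 0) ∧
      cmp H (U i) ((π i).lTensor _ w) = c i := by
    intro i
    have h1 : c i ∈ ((I i).map (Algebra.TensorProduct.includeRight :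
        Γ(X, U i) →ₐ[Γ(Y, ⊤)] Γ(Y', ⊤) ⊗[Γ(Y, ⊤)] Γ(X, U i))).map (cmp H (U i)) := by
      have hcomp : (cmp H (U i)).comp (Algebra.TensorProduct.includeRight :
          Γ(X, U i) →ₐ[Γ(Y, ⊤)] Γ(Y', ⊤) ⊗[Γ(Y, ⊤)] Γ(X, U i)).toRingHom = (p.app (U i)).hom :=
        RingHom.ext fun r => by
          show cmp H (U i) (1 ⊗ₜ r) = _
          rw [cmp_tmul, map_one, one_mul]
      have h := hcI i
      rw [← hcomp, ← Ideal.map_map] at h
      exact h
    obtain ⟨z, hz, hzc⟩ := (Ideal.mem_map_iff_of_surjective _ (cmp_bijective H (hU i)).2).mp h1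
    rw [← hzc]
    have hz' : z ∈ Submodule.restrictScalars Γ(Y, ⊤) ((I i).map (Algebra.TensorProduct.includeRight :
        Γ(X, U i) →ₐ[Γ(Y, ⊤)] Γ(Y', ⊤) ⊗[Γ(Y, ⊤)] Γ(X, U i))) := hz
    rw [Ideal.map_includeRight_eq] at hz'
    obtain ⟨w, rfl⟩ := hz'
    let inc : (I i).restrictScalars Γ(Y, ⊤) →ₗ[Γ(Y, ⊤)] P :=
      LinearMap.codRestrict P (LinearMap.single Γ(Y, ⊤) (fun i => Γ(X, U i)) i ∘ₗ
        Submodule.subtype _) fun r => by
          rw [Submodule.mem_iInf]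
          intro j
          rcases eq_or_ne j i with rfl | hji
          · show LinearMap.single Γ(Y, ⊤) (fun i => Γ(X, U i)) j r.1 j ∈ I j
            rw [LinearMap.single_apply, Pi.single_eq_same]
            exact r.2
          · show LinearMap.single Γ(Y, ⊤) (fun i => Γ(X, U i)) i r.1 j ∈ I j
            rw [LinearMap.single_apply, Pi.single_eq_of_ne hji]
            exact zero_mem _
    refine ⟨inc.lTensor _ w, fun j hji => ?_, ?_⟩
    · rw [← LinearMap.lTensor_comp_apply, show π j ∘ₗ inc = 0 from LinearMap.ext fun r =>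
        show (inc r).1 j = 0 from Pi.single_eq_of_ne hji _, LinearMap.lTensor_zero, LinearMap.zero_apply, map_zero]
    · rw [← LinearMap.lTensor_comp_apply, show π i ∘ₗ inc = Submodule.subtype _ from LinearMap.ext fun r =>
        show (inc r).1 i = r.1 from Pi.single_eq_same i _]
  choose w hw0 hw using hlift
  let z := ∑ i, w i
  have hz : ∀ i, cmp H (U i) ((π i).lTensor _ z) = c i := fun i => by
    simp only [z, map_sum]
    rw [Finset.sum_eq_single i (fun j _ hji => hw0 j i hji.symm) (by simp), hw]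
  -- the coefficients satisfy the cocycle condition
  have hΨ : Ψ.lTensor Γ(Y', ⊤) z = 0 := by
    let eπ := TensorProduct.piRight Γ(Y, ⊤) Γ(Y, ⊤) Γ(Y', ⊤) (fun ij : ι × ι => Γ(X, U ij.1 ⊓ U ij.2))
    refine eπ.injective (funext fun ij => ?_)
    rw [map_zero, Pi.zero_apply]
    have hcomp : ∀ v, eπ v ij = (LinearMap.proj (R := Γ(Y, ⊤))
        (φ := fun ij : ι × ι => Γ(X, U ij.1 ⊓ U ij.2)) ij).lTensor Γ(Y', ⊤) v := fun v => by
      induction v using TensorProduct.induction_on with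
      | zero => simp
      | tmul a r => rfl
      | add a b ha hb => simp only [map_add, Pi.add_apply, ha, hb]
    obtain ⟨i, j⟩ := ij
    have hq : IsCompact ((U i ⊓ U j : X.Opens) : Set X) :=
      QuasiSeparatedSpace.inter_isCompact (U i : Set X) (U j : Set X) (U i).isOpen (hU i).isCompact (U j).isOpen (hU j).isCompact
    refine cmp_injective H hq ?_
    rw [map_zero, hcomp, ← LinearMap.lTensor_comp_apply]
    have hsplit : (LinearMap.proj (R := Γ(Y, ⊤)) (φ := fun ij : ι × ι => Γ(X, U ij.1 ⊓ U ij.2)) (i, j)) ∘ₗ Ψ =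
        LinearMap.mulLeft Γ(Y, ⊤) (u i j) ∘ₗ rs inf_le_left ∘ₗ π i - rs inf_le_right ∘ₗ π j := rfl
    have hmul : ∀ v, cmp H (U i ⊓ U j) ((LinearMap.mulLeft Γ(Y, ⊤) (u i j)).lTensor Γ(Y', ⊤) v) =
        p.app (U i ⊓ U j) (u i j) * cmp H (U i ⊓ U j) v := fun v => by
      induction v using TensorProduct.induction_on with
      | zero => simp
      | tmul a r => rw [LinearMap.lTensor_tmul, LinearMap.mulLeft_apply, cmp_tmul, cmp_tmul, map_mul]; ring
      | add a b ha hb => simp only [map_add, ha, hb, mul_add]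
    rw [hsplit, LinearMap.lTensor_sub, LinearMap.sub_apply, map_sub, sub_eq_zero,
      LinearMap.lTensor_comp, LinearMap.comp_apply, hmul, LinearMap.lTensor_comp, LinearMap.comp_apply,
      LinearMap.lTensor_comp _ (rs inf_le_right) (π j), LinearMap.comp_apply,
      res_cmp H inf_le_left (rs inf_le_left) (fun _ => rfl), res_cmp H inf_le_right (rs inf_le_right) (fun _ => rfl),
      hz, hz]
    have e1 := congrArg (res ((Scheme.Modules.pullback p).obj M) (p.preimage_mono (inf_le_left : U i ⊓ U j ≤ U i))) (hc i)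
    have e2 := congrArg (res ((Scheme.Modules.pullback p).obj M) (p.preimage_mono (inf_le_right : U i ⊓ U j ≤ U j))) (hc j)
    rw [res_res, res_smul, res_pullSec p M (inf_le_left : U i ⊓ U j ≤ U i) (e i), hu, pullSec_smul, ← mul_smul,
      ← res_pullSec p M (inf_le_right : U i ⊓ U j ≤ U j) (e j)] at e1
    rw [res_res, res_smul] at e2
    rw [mul_comm]
    exact ((he j).pull p).smul_inj (p.preimage_mono inf_le_right) (e1.symm.trans e2)
  have hex : Function.Exact (LinearMap.ker Ψ).subtype Ψ := LinearMap.exact_subtype_ker_map Ψ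
  obtain ⟨v, hv⟩ := (@Module.Flat.lTensor_exact Γ(Y, ⊤) Γ(Y', ⊤) _ _ _ _ ↥(LinearMap.ker Ψ) ↥P
    ((ij : ι × ι) → Γ(X, U ij.1 ⊓ U ij.2)) _ _ _ _ _ _ (LinearMap.ker Ψ).subtype Ψ hex z).mp hΨ
  -- some coefficient does not vanish at the point
  have key : ∃ a : LinearMap.ker Ψ, p x' ∈ X.basicOpen (π i₀ a.1) := by
    by_contra hne
    push Not at hne
    have hx₀ : x' ∈ p ⁻¹ᵁ U i₀ := X'.basicOpen_le _ hx'
    have hgerm : ∀ v : Γ(Y', ⊤) ⊗[Γ(Y, ⊤)] LinearMap.ker Ψ, ¬ x' ∈ X'.basicOpen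
        (cmp H (U i₀) ((π i₀).lTensor _ ((LinearMap.ker Ψ).subtype.lTensor _ v))) := fun v => by
      induction v using TensorProduct.induction_on with
      | zero => simp
      | tmul a r =>
        rw [LinearMap.lTensor_tmul, LinearMap.lTensor_tmul, cmp_tmul, Scheme.basicOpen_mul,
          ← Scheme.preimage_basicOpen]
        exact fun h => hne r h.2
      | add a b ha hb =>
        rw [map_add, map_add, map_add]
        exact fun h => (basicOpen_add_le _ _ h).elim ha hb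
    apply hgerm v
    rw [hv, hz]
    exact hx'
  obtain ⟨⟨a, ha⟩, hxa⟩ := key
  -- glue the coefficients
  let sf : ∀ i, Γ(M, U i) := fun i => π i a • e i
  obtain ⟨s, hs, -⟩ := TopCat.Sheaf.existsUnique_gluing' (⟨M.presheaf, M.isSheaf⟩ : TopCat.Sheaf AddCommGrpCat.{u} X)
    U ⊤ (fun i => homOfLE le_top) hcov.ge sf (fun i j => by
      show res M inf_le_left (π i a • e i) = res M inf_le_right (π j a • e j)
      rw [res_smul, res_smul, hu, ← mul_smul, mul_comm]
      congr 1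
      exact sub_eq_zero.mp (congrFun (LinearMap.mem_ker.mp ha) (i, j)))
  exact ⟨s, fun i => π i a, fun i => ⟨(Submodule.mem_iInf _).mp a.2 i, hs i⟩, hxa⟩

include H in
/-- Loci of sections form a neighbourhood basis at every point over which the pullback is ample. -/
theorem exists_gloc_nbhd [CompactSpace X] [QuasiSeparatedSpace X] (L : X.Modules) (hL : PicF.IsInvertible L)
    (h : CohB1.IsAmple ((Scheme.Modules.pullback p).obj L)) (x' : X') {O : X.Opens} (hx : p x' ∈ O) :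
    ∃ W ∈ {U : X.Opens | ∃ (n : ℕ) (s : Coh.structureModule X ⟶ CohB1.tensorPow L (n + 1)),
      U = CohB1.genLocus _ s}, p x' ∈ W ∧ W ≤ O := by
  haveI : IsAffineHom g := inferInstance
  haveI : IsAffineHom p := MorphismProperty.of_isPullback H.flip inferInstance
  obtain ⟨_, ⟨n, s', rfl⟩, hxs, hsO⟩ := Opens.isBasis_iff_nbhd.mp (isBasis_of_isAmple h)
    (show x' ∈ p ⁻¹ᵁ O from hx)
  rw [genLocus_eq_gloc] at hxs hsO
  let M := CohB1.tensorPow L (n + 1)
  have hM : PicF.IsInvertible M := isInvertible_tensorPow hL _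
  obtain ⟨φ⟩ := pullback_tensorPow p L (n + 1)
  let t : Γ((Scheme.Modules.pullback p).obj M, ⊤) := φ.inv.app ⊤ (gsec s')
  have ht : gloc t = gloc (gsec s') := gloc_map φ.inv _
  -- a finite affine cover trivializing `M`
  obtain ⟨W, e₀, hWa, hyW, he₀, -⟩ := Groth.PropsBasic.Ample.exists_gen_cover hM
  obtain ⟨F, hF⟩ := isCompact_univ.elim_finite_subcover (fun y => (W y : Set X)) (fun y => (W y).isOpen)
    (fun y _ => Set.mem_iUnion.mpr ⟨y, hyW y⟩)
  let U : {y // y ∈ F} → X.Opens := fun i => W i.1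
  have hcov : ⨆ i, U i = ⊤ := eq_top_iff.mpr fun y _ => by
    obtain ⟨i, hi, hyi⟩ := Set.mem_iUnion₂.mp (hF (Set.mem_univ y))
    exact Opens.mem_iSup.mpr ⟨⟨i, hi⟩, hyi⟩
  have hU : ∀ i, IsAffineOpen (U i) := fun i => hWa _
  let e : ∀ i, Γ(M, U i) := fun i => e₀ i.1
  have he : ∀ i, Gen M (U i) (e i) := fun i => he₀ _
  have hcoef : ∀ i, ∃ c : Γ(X', p ⁻¹ᵁ U i), res _ le_top t = c • pullSec p M (e i) := fun i => by
    obtain ⟨c, hc⟩ := ((he i).pull p).exists_coeff le_rfl (res _ le_top t)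
    rw [res_self] at hc
    exact ⟨c, hc⟩
  choose c hc using hcoef
  have hcb : ∀ i, X'.basicOpen (c i) ≤ p ⁻¹ᵁ O := fun i => by
    rw [← gloc_inf_eq_basicOpen ((he i).pull p) (hc i), ht]
    exact inf_le_left.trans hsO
  have hpow : ∀ i, ∃ m : ℕ, c i ^ m ∈ (vanIdeal O (U i)).map (p.app (U i)).hom := fun i =>
    mem_radical_map_vanIdeal p (hU i) ((hU i).preimage p) (c i) (hcb i)
  choose m hm using hpow
  let N := (Finset.univ.sup m) + 1
  obtain ⟨ψ⟩ := pullback_tensorPow p M N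
  let τ : Γ((Scheme.Modules.pullback p).obj (CohB1.tensorPow M N), ⊤) := ψ.inv.app ⊤ (powSec t N)
  have hτ : gloc τ = gloc t :=
    (gloc_map ψ.inv _).trans (gloc_powSec (Groth.PicAux.isInvertible_pullback p hM) t (Nat.succ_pos _))
  have hd : ∀ i, ∃ d ∈ (vanIdeal O (U i)).map (p.app (U i)).hom,
      res _ le_top τ = d • pullSec p (CohB1.tensorPow M N) (powSec (e i) N) := fun i => by
    obtain ⟨w, hw⟩ := (((he i).pow N).pull p).exists_unit
      ((((he i).pull p).pow N).map ψ.inv)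
    refine ⟨c i ^ N * w, Ideal.mul_mem_right _ _ (Ideal.pow_mem_of_pow_mem _ (hm i)
      ((Finset.le_sup (Finset.mem_univ i)).trans (Nat.le_succ _))), ?_⟩
    rw [mul_smul, ← hw, ← Scheme.Modules.Hom.app_smul, ← powSec_smul, ← hc, ← res_powSec]
    exact (app_res ψ.inv _ _).symm
  choose d hdI hd using hd
  obtain ⟨i₀, hi₀⟩ := Opens.mem_iSup.mp (hcov.ge (Set.mem_univ (p x')) : p x' ∈ ⨆ i, U i)
  have hxd : x' ∈ X'.basicOpen (d i₀) := by
    rw [← gloc_inf_eq_basicOpen (((he i₀).pow N).pull p) (hd i₀), hτ, ht]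
    exact ⟨hxs, hi₀⟩
  obtain ⟨s, r, hr, hxr⟩ := exists_coeff_mem H (CohB1.tensorPow M N) U hU hcov (fun i => powSec (e i) N)
    (fun i => (he i).pow N) (fun i => vanIdeal O (U i)) τ d hd hdI hxd
  obtain ⟨s₁, hs₁⟩ := exists_gloc_transport (L := L) (n + 1) N s
  have hN : (n + 1) * N = ((n + 1) * N - 1) + 1 :=
    (Nat.sub_add_cancel (Nat.mul_pos n.succ_pos (Nat.succ_pos _))).symm
  obtain ⟨s₂, hs₂⟩ : ∃ s₂ : Γ(CohB1.tensorPow L (((n + 1) * N - 1) + 1), ⊤), gloc s₂ = gloc s := by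
    rw [← hN]; exact ⟨s₁, hs₁⟩
  refine ⟨_, ⟨_, homOfSection s₂, rfl⟩, ?_, ?_⟩
  · show p x' ∈ gloc s₂
    rw [hs₂]
    have := gloc_inf_eq_basicOpen ((he i₀).pow N) (hr i₀).2
    exact (this.ge hxr).1
  · show gloc s₂ ≤ O
    rw [hs₂]
    intro y hy
    obtain ⟨i, hi⟩ := Opens.mem_iSup.mp (hcov.ge (Set.mem_univ y) : y ∈ ⨆ i, U i)
    exact (hr i).1 ((gloc_inf_eq_basicOpen ((he i).pow N) (hr i).2).le ⟨hy, hi⟩)

omit [IsAffine Y'] [Flat g] in
/-- Ampleness is checked on a finite affine flat cover of the base. -/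
theorem isAmple_of_finite_cover (L : X.Modules) (hL : PicF.IsInvertible L) {κ : Type u} [Finite κ]
    {Yk Xk : κ → Scheme.{u}} [∀ k, IsAffine (Yk k)] (gk : ∀ k, Yk k ⟶ Y) [∀ k, Flat (gk k)]
    (pk : ∀ k, Xk k ⟶ X) (qk : ∀ k, Xk k ⟶ Yk k) (Hk : ∀ k, IsPullback (pk k) (qk k) (X ↘ Y) (gk k))
    (hsurj : ∀ x : X, ∃ k x', pk k x' = x)
    (h : ∀ k, CohB1.IsAmple ((Scheme.Modules.pullback (pk k)).obj L)) : CohB1.IsAmple L := by
  haveI : ∀ k, IsAffineHom (pk k) := fun k => MorphismProperty.of_isPullback (Hk k).flip inferInstance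
  haveI : ∀ k, CompactSpace (Xk k) := fun k => (h k).2.1
  haveI : ∀ k, (Xk k).IsSeparated := fun k => isSeparated_of_cover (h k).1 (h k).2.2
  have hU : ∀ S : Set X, (∀ k, IsCompact (pk k ⁻¹' S)) → IsCompact S := fun S hS => by
    have : S = ⋃ k, pk k '' (pk k ⁻¹' S) := by
      ext x
      refine ⟨fun hx => ?_, ?_⟩
      · obtain ⟨k, x', rfl⟩ := hsurj x
        exact Set.mem_iUnion.mpr ⟨k, x', hx, rfl⟩
      · rintro ⟨_, ⟨k, rfl⟩, x', hx', rfl⟩
        exact hx'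
    rw [this]
    exact isCompact_iUnion fun k => (hS k).image (pk k).continuous
  haveI : CompactSpace X := ⟨hU _ fun k => by rw [Set.preimage_univ]; exact isCompact_univ⟩
  haveI : QuasiSeparatedSpace X := ⟨fun U V hUo hUc hVo hVc => hU _ fun k => by
    rw [Set.preimage_inter]
    exact QuasiSeparatedSpace.inter_isCompact _ _ (hUo.preimage (pk k).continuous)
      (QuasiCompact.isCompact_preimage U hUo hUc) (hVo.preimage (pk k).continuous)
      (QuasiCompact.isCompact_preimage V hVo hVc)⟩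
  refine isAmple_of_isBasis hL (Opens.isBasis_iff_nbhd.mpr fun {O x} hx => ?_)
  obtain ⟨k, x', rfl⟩ := hsurj x
  exact exists_gloc_nbhd (Hk k) L hL (h k) x' hx

end Groth.FBaseGeom.AmpleDesc
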