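/-
Dimension of components of base changes and products over a field.
-/
import Groth.Prelude.Def_FDesc
import Groth.Agent.FibreDim.BaseChange
import Groth.Agent.Variety2.DimScheme

open CategoryTheory CategoryTheory.Limits AlgebraicGeometry TopologicalSpace Topology Set
open scoped TensorProduct

universe u

set_option backward.isDefEq.respectTransparency false

namespace Groth.FBaseGeom

open Groth.FibreDim

section Ring

variable {k S : Type u} [Field k] [CommRing S] [Algebra k S] [Algebra.FiniteType k S]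
  (K : Type u) [Field K] [Algebra k K]

/-- A prime of `K ⊗ S` minimal over its trace has the same coheight dimension. -/
theorem ringKrullDim_quotient_eq_of_minimal (P : PrimeSpectrum (K ⊗[k] S))
    (hmin : ∀ Q : PrimeSpectrum (K ⊗[k] S), Q.asIdeal ≤ P.asIdeal →
      PrimeSpectrum.comap (Algebra.TensorProduct.includeRight.toRingHom : S →+* K ⊗[k] S) Q =
        PrimeSpectrum.comap (Algebra.TensorProduct.includeRight.toRingHom : S →+* K ⊗[k] S) P → Q = P) :
    ringKrullDim ((K ⊗[k] S) ⧸ P.asIdeal) =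
      ringKrullDim (S ⧸ (PrimeSpectrum.comap (Algebra.TensorProduct.includeRight.toRingHom : S →+* K ⊗[k] S) P).asIdeal) := by
  set p := PrimeSpectrum.comap (Algebra.TensorProduct.includeRight.toRingHom : S →+* K ⊗[k] S) P with hp
  let π := Algebra.TensorProduct.map (AlgHom.id k K) (Ideal.Quotient.mkₐ k p.asIdeal)
  have hπ : Function.Surjective π :=
    TensorProduct.map_surjective (g := LinearMap.id (R := k) (M := K))
      (g' := (Ideal.Quotient.mkₐ k p.asIdeal).toLinearMap) Function.surjective_id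
      Ideal.Quotient.mk_surjective
  have hker : RingHom.ker π ≤ P.asIdeal := by
    rw [Algebra.TensorProduct.lTensor_ker _ Ideal.Quotient.mk_surjective, Ideal.map_le_iff_le_comap]
    intro x hx
    exact (Ideal.mk_ker.le hx : x ∈ p.asIdeal)
  have : (P.asIdeal.map π.toRingHom).IsPrime := Ideal.map_isPrime_of_surjective hπ hker
  obtain ⟨R, hR, hRle⟩ := Ideal.exists_minimalPrimes_le (I := (⊥ : Ideal (K ⊗[k] (S ⧸ p.asIdeal))))
    (J := P.asIdeal.map π.toRingHom) bot_le
  have := hR.1.1
  have hle : R.comap π.toRingHom ≤ P.asIdeal :=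
    (Ideal.comap_mono hRle).trans ((Ideal.comap_map_of_surjective π.toRingHom hπ P.asIdeal).le.trans
      (sup_le le_rfl ((RingHom.ker_eq_comap_bot π.toRingHom).ge.trans hker)))
  have hcomap : PrimeSpectrum.comap (Algebra.TensorProduct.includeRight.toRingHom : S →+* K ⊗[k] S)
      ⟨R.comap π.toRingHom, inferInstance⟩ = p := by
    refine PrimeSpectrum.ext (le_antisymm (Ideal.comap_mono hle) fun x hx => ?_)
    change π ((1 : K) ⊗ₜ[k] x) ∈ R
    simp [π, Ideal.Quotient.eq_zero_iff_mem.2 hx]
  have hPR : R.comap π.toRingHom = P.asIdeal := congrArg PrimeSpectrum.asIdeal (hmin _ hle hcomap)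
  refine le_antisymm ((ringKrullDim_le_of_surjective
      (((Ideal.Quotient.factor hker).comp (RingHom.quotientKerEquivOfSurjective
        (f := π.toRingHom) hπ).symm.toRingHom))
      ((Ideal.Quotient.factor_surjective hker).comp
        (RingHom.quotientKerEquivOfSurjective (f := π.toRingHom) hπ).symm.surjective)).trans
        (ringKrullDim_tensor_le K)) ?_
  exact (le_ringKrullDim_quotient K R hR).trans (ringKrullDim_le_of_surjective
    (Ideal.quotientMap R π.toRingHom hPR.ge) (Ideal.quotientMap_surjective hπ))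

end Ring

/-- A point with no proper generalization in its fibre keeps its height under a field extension. -/
theorem height_eq_of_isPullback {k K : Type u} [Field k] [Field K] (φ : CommRingCat.of k ⟶ CommRingCat.of K)
    {Z Z' : Scheme.{u}} (sZ : Z ⟶ Spec (CommRingCat.of k)) [LocallyOfFiniteType sZ]
    (sZ' : Z' ⟶ Spec (CommRingCat.of K)) (q : Z' ⟶ Z) (h : IsPullback q sZ' sZ (Spec.map φ)) (z' : Z')
    (hmax : ∀ g, g ⤳ z' → q g = q z' → g = z') :
    Order.height z' = Order.height (q z') := by
  have : LocallyOfFiniteType sZ' := MorphismProperty.of_isPullback h inferInstance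
  obtain ⟨W, hW, hzW, -⟩ := exists_isAffineOpen_mem_and_subset (U := ⊤) (Set.mem_univ (q.base z'))
  obtain ⟨ψ, hψ⟩ := Spec.map_surjective (hW.fromSpec ≫ sZ)
  haveI : LocallyOfFiniteType (Spec.map ψ) := hψ ▸ inferInstance
  letI := ψ.hom.toAlgebra
  letI := φ.hom.toAlgebra
  haveI : Algebra.FiniteType k Γ(Z, W) :=
    RingHom.finiteType_algebraMap.mp ((HasRingHomProperty.Spec_iff (P := @LocallyOfFiniteType)).mp ‹_›)
  let incl : CommRingCat.of Γ(Z, W) ⟶ CommRingCat.of (K ⊗[k] Γ(Z, W)) :=
    CommRingCat.ofHom Algebra.TensorProduct.includeRight.toRingHom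
  have hsq : IsPullback (Spec.map incl)
      (Spec.map (CommRingCat.ofHom (algebraMap K (K ⊗[k] Γ(Z, W))))) (Spec.map ψ) (Spec.map φ) :=
    (isPullback_SpecMap_of_isPushout _ _ _ _
      (CommRingCat.isPushout_tensorProduct k K Γ(Z, W))).flip
  let l : Spec (CommRingCat.of (K ⊗[k] Γ(Z, W))) ⟶ Z' := h.lift (Spec.map incl ≫ hW.fromSpec)
    (Spec.map (CommRingCat.ofHom (algebraMap K (K ⊗[k] Γ(Z, W)))))
    (by rw [Category.assoc, ← hψ, hsq.w])
  have hl : l ≫ q = Spec.map incl ≫ hW.fromSpec := h.lift_fst _ _ _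
  have hl2 : l ≫ sZ' = Spec.map (CommRingCat.ofHom (algebraMap K (K ⊗[k] Γ(Z, W)))) := h.lift_snd _ _ _
  have htop : IsPullback (Spec.map incl) l hW.fromSpec q :=
    IsPullback.of_bot (by rw [hl2, ← hψ]; exact hsq) hl.symm h
  haveI : IsOpenImmersion l := MorphismProperty.of_isPullback htop inferInstance
  obtain ⟨P, rfl⟩ : z' ∈ Set.range l.base := by
    obtain ⟨w, hw⟩ : q.base z' ∈ Set.range hW.fromSpec.base := hW.range_fromSpec.ge hzW
    obtain ⟨x', -, hx2⟩ := Scheme.Pullback.exists_preimage_pullback w z' hw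
    exact ⟨htop.isoPullback.inv.base x', by
      rw [← Scheme.Hom.comp_apply, htop.isoPullback_inv_snd]; exact hx2⟩
  have hql : ∀ Q, q (l Q) = hW.fromSpec (Spec.map incl Q) := fun Q => congr($hl Q)
  haveI : LocallyOfFiniteType (Spec.map (CommRingCat.ofHom (algebraMap K (K ⊗[k] Γ(Z, W))))) := by
    rw [← hl2]; infer_instance
  rw [Groth.Variety2.Dim.height_eq_of_isPreimmersion
      (Spec.map (CommRingCat.ofHom (algebraMap K (K ⊗[k] Γ(Z, W))))) sZ' l hl2 P,
    hql, Groth.Variety2.Dim.height_eq_of_isPreimmersion (Spec.map ψ) sZ hW.fromSpec hψ.symm]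
  apply WithBot.coe_injective
  refine (height_spec_eq (S := K ⊗[k] Γ(Z, W)) P).trans
    (Eq.trans ?_ (height_spec_eq (S := Γ(Z, W)) _).symm)
  refine ringKrullDim_quotient_eq_of_minimal K P fun Q hQ he => ?_
  refine l.isOpenEmbedding.injective (hmax (l Q) ?_ ?_)
  · exact ((PrimeSpectrum.le_iff_specializes Q P).1 hQ).map l.continuous
  · rw [hql, hql]
    exact congrArg _ he

theorem eq_of_specializes_generic {α : Type*} [TopologicalSpace α] [T0Space α] {Z : Set α}
    {z g : α} (hz : IsGenericPoint z Z) (hmax : ∀ T, IsIrreducible T → Z ⊆ T → T ⊆ Z)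
    (h : g ⤳ z) : g = z := by
  have hcl : Z ⊆ closure {g} :=
    hz.def ▸ closure_minimal (singleton_subset_iff.2 h.mem_closure) isClosed_closure
  exact IsGenericPoint.eq
    (show IsGenericPoint g Z from (hmax _ isIrreducible_singleton.closure hcl).antisymm hcl) hz

section BaseChange

variable {k : Type u} [Field k] {X : Scheme.{u}} (f : X ⟶ Spec (CommRingCat.of k))
  (K : Type u) [Field K] [Algebra k K]

theorem flat_bcπ : Flat (FBase.bcπ f K) := by
  refine MorphismProperty.of_isPullback (P := (@Flat : MorphismProperty Scheme.{u}))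
    (IsPullback.of_hasPullback f _).flip ?_
  rw [Flat.SpecMap_iff]
  exact RingHom.flat_algebraMap_iff.mpr inferInstance

theorem surjective_bcπ : Function.Surjective (FBase.bcπ f K) := by
  have : Surjective (Spec.map (CommRingCat.ofHom (algebraMap k K))) :=
    ⟨fun p => ⟨Classical.arbitrary _, Subsingleton.elim _ _⟩⟩
  exact (MorphismProperty.of_isPullback (P := (@Surjective : MorphismProperty Scheme.{u}))
    (IsPullback.of_hasPullback f (Spec.map (CommRingCat.ofHom (algebraMap k K)))).flip this).surj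

/-- A point maximal in the preimage of a closed set lies over a maximal point of that set. -/
theorem bcπ_eq_of_isGenericPoint {z : X} {W : Set (FBase.bc f K)} {w : FBase.bc f K}
    (hw : IsGenericPoint w W) (hW : W ⊆ FBase.bcπ f K ⁻¹' closure {z})
    (hmax : ∀ T, IsIrreducible T → T ⊆ FBase.bcπ f K ⁻¹' closure {z} → W ⊆ T → T ⊆ W) :
    FBase.bcπ f K w = z ∧ ∀ g, g ⤳ w → FBase.bcπ f K g = z → g = w := by
  have := flat_bcπ f K
  have key : ∀ g, g ⤳ w → FBase.bcπ f K g ∈ closure {z} → g = w := by
    intro g hg hgz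
    have hsub : closure {g} ⊆ FBase.bcπ f K ⁻¹' closure {z} :=
      closure_minimal (singleton_subset_iff.2 hgz) (isClosed_closure.preimage (FBase.bcπ f K).continuous)
    have hcl : W ⊆ closure {g} :=
      hw.def ▸ closure_minimal (singleton_subset_iff.2 hg.mem_closure) isClosed_closure
    exact IsGenericPoint.eq
      (show IsGenericPoint g W from (hmax _ isIrreducible_singleton.closure hsub hcl).antisymm hcl) hw
  obtain ⟨g, hg, he⟩ := Flat.generalizingMap (FBase.bcπ f K)
    (specializes_iff_mem_closure.2 (hW hw.mem))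
  rw [key g hg (he ▸ subset_closure rfl)] at he
  exact ⟨he, fun g hg hgz => key g hg (hgz ▸ subset_closure rfl)⟩

variable [LocallyOfFiniteType f]

theorem height_bcπ (w : FBase.bc f K)
    (hmax : ∀ g, g ⤳ w → FBase.bcπ f K g = FBase.bcπ f K w → g = w) :
    Order.height w = Order.height (FBase.bcπ f K w) :=
  height_eq_of_isPullback (CommRingCat.ofHom (algebraMap k K)) f (FBase.bcStr f K) (FBase.bcπ f K)
    (IsPullback.of_hasPullback _ _) w hmax

/-- Every irreducible component of the preimage of an irreducible closed set has its dimension. -/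
theorem dim_component_preimage {Z : Set X} (hZc : IsClosed Z) (hZi : IsIrreducible Z)
    {W : Set ↥(FBase.bcπ f K ⁻¹' Z)} (hW : W ∈ irreducibleComponents ↥(FBase.bcπ f K ⁻¹' Z)) :
    topologicalKrullDim W = topologicalKrullDim Z := by
  obtain ⟨z, hz⟩ := QuasiSober.sober hZi hZc
  have hemb : IsClosedEmbedding (Subtype.val : ↥(FBase.bcπ f K ⁻¹' Z) → FBase.bc f K) :=
    (hZc.preimage (FBase.bcπ f K).continuous).isClosedEmbedding_subtypeVal
  obtain ⟨w, hw⟩ := QuasiSober.sober (hW.1.image _ continuous_subtype_val.continuousOn)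
    (hemb.isClosedMap _ (isClosed_of_mem_irreducibleComponents _ hW))
  obtain ⟨he, hwm⟩ := bcπ_eq_of_isGenericPoint f K (z := z) hw
    (by rintro _ ⟨a, -, rfl⟩; rw [hz.def]; exact a.2) (fun T hT hTs hWT => by
      rw [hz.def] at hTs
      have hT' : IsIrreducible (Subtype.val ⁻¹' T : Set ↥(FBase.bcπ f K ⁻¹' Z)) :=
        ⟨let ⟨t, ht⟩ := hT.1; ⟨⟨t, hTs ht⟩, ht⟩,
          fun u v hu hv ⟨a, ha, hau⟩ ⟨b, hb, hbv⟩ => by
            obtain ⟨u', hu', rfl⟩ := isOpen_induced_iff.1 hu
            obtain ⟨v', hv', rfl⟩ := isOpen_induced_iff.1 hv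
            obtain ⟨c, hc, hcu, hcv⟩ := hT.2 u' v' hu' hv' ⟨a.1, ha, hau⟩ ⟨b.1, hb, hbv⟩
            exact ⟨⟨c, hTs hc⟩, hc, hcu, hcv⟩⟩
      intro t ht
      exact ⟨⟨t, hTs ht⟩, hW.2 hT' (fun a ha => hWT ⟨a, ha, rfl⟩) ht, rfl⟩)
  have : LocallyOfFiniteType (FBase.bcStr f K) :=
    MorphismProperty.pullback_snd (P := @LocallyOfFiniteType) _ _ ‹_›
  rw [(hemb.isEmbedding.homeomorphImage W).isHomeomorph.topologicalKrullDim_eq _, ← hw.def,
    Groth.Variety2.Dim.dim_closure_singleton, height_bcπ f K w (by rwa [he]), he, ← hz.def,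
    Groth.Variety2.Dim.dim_closure_singleton]

omit [LocallyOfFiniteType f] in
/-- Generic points of components of the base change lie over generic points of components. -/
theorem bcπ_maximal {g : FBase.bc f K} (hg : ∀ g', g' ⤳ g → g' = g) :
    ∀ x, x ⤳ FBase.bcπ f K g → x = FBase.bcπ f K g := fun x hx => by
  have := flat_bcπ f K
  obtain ⟨g', hg', rfl⟩ := Flat.generalizingMap (FBase.bcπ f K) hx
  rw [hg g' hg']

theorem component_maximal {α : Type*} [TopologicalSpace α] [T0Space α] {Z : Set α}
    (hZ : Z ∈ irreducibleComponents α) {z : α} (hz : IsGenericPoint z Z) : ∀ g, g ⤳ z → g = z :=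
  fun _ h => eq_of_specializes_generic hz (fun _ hT hle => hZ.2 hT hle) h

theorem exists_maximal_specializes {α : Type*} [TopologicalSpace α] [QuasiSober α] [T0Space α] (x : α) :
    ∃ g, g ⤳ x ∧ irreducibleComponent x = closure {g} ∧ ∀ g', g' ⤳ g → g' = g := by
  have hC := irreducibleComponent_mem_irreducibleComponents x
  obtain ⟨g, hg⟩ := QuasiSober.sober hC.1 (isClosed_of_mem_irreducibleComponents _ hC)
  exact ⟨g, hg.specializes mem_irreducibleComponent, hg.def.symm, component_maximal hC hg⟩

/-- The dimensions of the components do not change. -/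
theorem image_dim_components :
    (fun Z : Set ↥(FBase.bc f K) => topologicalKrullDim ↥Z) '' irreducibleComponents ↥(FBase.bc f K) =
      (fun Z : Set ↥X => topologicalKrullDim ↥Z) '' irreducibleComponents ↥X := by
  have : LocallyOfFiniteType (FBase.bcStr f K) :=
    MorphismProperty.pullback_snd (P := @LocallyOfFiniteType) _ _ ‹_›
  refine Subset.antisymm ?_ ?_
  · rintro _ ⟨W, hW, rfl⟩
    obtain ⟨g, hg⟩ := QuasiSober.sober hW.1 (isClosed_of_mem_irreducibleComponents _ hW)
    have hgm := component_maximal hW hg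
    obtain ⟨x, hx, hxC, -⟩ := exists_maximal_specializes (FBase.bcπ f K g)
    rw [bcπ_maximal f K hgm x hx] at hxC
    refine ⟨_, irreducibleComponent_mem_irreducibleComponents (FBase.bcπ f K g), ?_⟩
    simp only
    rw [hxC, ← hg.def, Groth.Variety2.Dim.dim_closure_singleton, Groth.Variety2.Dim.dim_closure_singleton,
      height_bcπ f K g fun g' hg' _ => hgm g' hg']
  · rintro _ ⟨Z, hZ, rfl⟩
    obtain ⟨z, hz⟩ := QuasiSober.sober hZ.1 (isClosed_of_mem_irreducibleComponents _ hZ)
    obtain ⟨w, hw⟩ := surjective_bcπ f K z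
    obtain ⟨g, hgw, hgC, hgm⟩ := exists_maximal_specializes w
    refine ⟨_, irreducibleComponent_mem_irreducibleComponents w, ?_⟩
    have hgz : FBase.bcπ f K g = z :=
      component_maximal hZ hz _ (hw ▸ hgw.map (FBase.bcπ f K).continuous)
    simp only
    rw [hgC, ← hz.def, Groth.Variety2.Dim.dim_closure_singleton, Groth.Variety2.Dim.dim_closure_singleton,
      height_bcπ f K g fun g' hg' _ => hgm g' hg', hgz]

/-- `dim X_K = dim X`. -/
theorem dim_bc : topologicalKrullDim ↥(FBase.bc f K) = topologicalKrullDim ↥X := by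
  rw [Groth.Variety2.Dim.dim_eq_iSup_height, Groth.Variety2.Dim.dim_eq_iSup_height]
  refine le_antisymm (iSup_le fun w => ?_) (iSup_le fun z => ?_)
  · obtain ⟨g, hgw, -, hgm⟩ := exists_maximal_specializes w
    refine le_trans (WithBot.coe_le_coe.2 (Order.height_mono (show w ≤ g from hgw))) ?_
    rw [height_bcπ f K g fun g' hg' _ => hgm g' hg']
    exact le_iSup (fun x : X => ((Order.height x : ℕ∞) : WithBot ℕ∞)) _
  · obtain ⟨w, hw⟩ := surjective_bcπ f K z
    let D : Set (FBase.bc f K) := FBase.bcπ f K ⁻¹' closure {z}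
    let w' : ↥D := ⟨w, show FBase.bcπ f K w ∈ closure {z} from hw ▸ subset_closure rfl⟩
    have hdim := dim_component_preimage f K isClosed_closure isIrreducible_singleton.closure
      (irreducibleComponent_mem_irreducibleComponents w')
    rw [Groth.Variety2.Dim.dim_closure_singleton] at hdim
    rw [← hdim]
    have : LocallyOfFiniteType (FBase.bcStr f K) :=
      MorphismProperty.pullback_snd (P := @LocallyOfFiniteType) _ _ ‹_›
    rw [← Groth.Variety2.Dim.dim_eq_iSup_height]
    exact (IsInducing.subtypeVal.comp IsInducing.subtypeVal).topologicalKrullDim_le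

end BaseChange

end Groth.FBaseGeom
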