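/-
Components and dimensions of products over a field.
-/
import Groth.Agent.FBaseGeom.Dim

open CategoryTheory CategoryTheory.Limits AlgebraicGeometry TopologicalSpace Topology Set

universe u

set_option backward.isDefEq.respectTransparency false

namespace Groth.FBaseGeom

variable {k : Type u} [Field k] {X Y : Scheme.{u}}
  (f : X ⟶ Spec (CommRingCat.of k)) (g : Y ⟶ Spec (CommRingCat.of k))

instance flat_fst : Flat (pullback.fst f g) :=
  MorphismProperty.pullback_fst (P := @Flat) _ _ inferInstance

instance flat_snd : Flat (pullback.snd f g) :=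
  MorphismProperty.pullback_snd (P := @Flat) _ _ inferInstance

/-- Lift a generalization of the first projection keeping the second projection fixed. -/
theorem exists_generalization_fst (z : (pullback f g : Scheme.{u})) {x : X} (hx : x ⤳ pullback.fst f g z) :
    ∃ z', z' ⤳ z ∧ pullback.fst f g z' = x ∧ pullback.snd f g z' = pullback.snd f g z := by
  let r := pullback.snd f g
  obtain ⟨y, hy⟩ : ∃ y, r z = y := ⟨_, rfl⟩
  obtain ⟨a, rfl⟩ : z ∈ Set.range (r.fiberι y) := (r.range_fiberι y).ge hy
  have hq : Flat (r.fiberι y ≫ pullback.fst f g) :=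
    MorphismProperty.of_isPullback (P := @Flat)
      ((IsPullback.of_hasPullback r (Y.fromSpecResidueField y)).paste_horiz (IsPullback.of_hasPullback f g)).flip
      inferInstance
  obtain ⟨b, hb, hbx⟩ := Flat.generalizingMap (r.fiberι y ≫ pullback.fst f g)
    (show x ⤳ (r.fiberι y ≫ pullback.fst f g) a from hx)
  exact ⟨r.fiberι y b, hb.map (r.fiberι y).continuous, hbx,
    ((r.range_fiberι y).le ⟨b, rfl⟩ : r (r.fiberι y b) = y).trans hy.symm⟩

/-- A point with no proper generalization with the same projections has height the sum. -/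
theorem height_eq_add [LocallyOfFiniteType f] [LocallyOfFiniteType g] (z : (pullback f g : Scheme.{u}))
    (hmax : ∀ z', z' ⤳ z → pullback.fst f g z' = pullback.fst f g z →
      pullback.snd f g z' = pullback.snd f g z → z' = z) :
    Order.height z = Order.height (pullback.fst f g z) + Order.height (pullback.snd f g z) := by
  let p := pullback.fst f g
  obtain ⟨y, hy⟩ : ∃ y, p z = y := ⟨_, rfl⟩
  obtain ⟨w, hw⟩ : z ∈ Set.range (p.fiberι y) := (p.range_fiberι y).ge hy
  obtain ⟨φ, hφ⟩ := Spec.map_surjective (X.fromSpecResidueField y ≫ f)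
  have hpb : IsPullback (p.fiberι y ≫ pullback.snd f g) (p.fiberToSpecResidueField y) g (Spec.map φ) := by
    rw [hφ]
    exact (IsPullback.of_hasPullback p (X.fromSpecResidueField y)).paste_horiz
      (IsPullback.of_hasPullback f g).flip
  have hw' : Order.height w = Order.height ((p.fiberι y ≫ pullback.snd f g) w) :=
    height_eq_of_isPullback (K := X.residueField y) φ g (p.fiberToSpecResidueField y) _ hpb w fun c hc he => by
      refine (p.fiberι y).isEmbedding.injective (hw ▸ hmax (p.fiberι y c) ?_ ?_ ?_)
      · exact hw ▸ hc.map (p.fiberι y).continuous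
      · exact ((p.range_fiberι y).le ⟨c, rfl⟩ : p (p.fiberι y c) = y).trans hy.symm
      · exact hw ▸ he
  have : LocallyOfFiniteType (p ≫ f) := inferInstance
  have h := Groth.Variety2.Dim.height_fiber_add (p ≫ f) f p rfl y w
  rw [hw, hw', show (p.fiberι y ≫ pullback.snd f g) w = pullback.snd f g z from congrArg _ hw] at h
  rw [← h, ← hy, add_comm]

theorem genericPoint_maximal [IrreducibleSpace X] : ∀ a, a ⤳ genericPoint X → a = genericPoint X :=
  fun a ha => (ha.antisymm (genericPoint_specializes a)).eq

/-- Maximal points of a product lie over maximal points. -/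
theorem fst_maximal {z : (pullback f g : Scheme.{u})} (hz : ∀ z', z' ⤳ z → z' = z) :
    ∀ a, a ⤳ pullback.fst f g z → a = pullback.fst f g z := fun a ha => by
  obtain ⟨z', hz', rfl⟩ := Flat.generalizingMap (pullback.fst f g) ha
  rw [hz z' hz']

theorem snd_maximal {z : (pullback f g : Scheme.{u})} (hz : ∀ z', z' ⤳ z → z' = z) :
    ∀ b, b ⤳ pullback.snd f g z → b = pullback.snd f g z := fun b hb => by
  obtain ⟨z', hz', rfl⟩ := Flat.generalizingMap (pullback.snd f g) hb
  rw [hz z' hz']

/-- Components of a product of integral schemes have dimension the sum. -/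
theorem dim_component_prod [LocallyOfFiniteType f] [LocallyOfFiniteType g] [IrreducibleSpace X] [IrreducibleSpace Y]
    {Z : Set (pullback f g : Scheme.{u})} (hZ : Z ∈ irreducibleComponents ↥(pullback f g)) :
    topologicalKrullDim Z = topologicalKrullDim ↥X + topologicalKrullDim ↥Y := by
  obtain ⟨z, hz⟩ := QuasiSober.sober hZ.1 (isClosed_of_mem_irreducibleComponents _ hZ)
  have hm := component_maximal hZ hz
  have hx := fst_maximal f g hm _ (genericPoint_specializes _)
  have hy := snd_maximal f g hm _ (genericPoint_specializes _)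
  have : LocallyOfFiniteType (pullback.fst f g ≫ f) := inferInstance
  rw [← hz.def, Groth.Variety2.Dim.dim_closure_singleton (X := pullback f g),
    height_eq_add f g z (fun z' hz' _ _ => hm z' hz'), ← hx, ← hy,
    Groth.Variety2.Dim.dim_eq_height_genericPoint, Groth.Variety2.Dim.dim_eq_height_genericPoint,
    WithBot.coe_add]

/-- The dimension of a product. -/
theorem dim_prod [LocallyOfFiniteType f] [LocallyOfFiniteType g] :
    topologicalKrullDim ↥(pullback f g) = topologicalKrullDim ↥X + topologicalKrullDim ↥Y := by
  rcases isEmpty_or_nonempty ↥X with hX | hX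
  · have : IsEmpty ↥(pullback f g) := Function.isEmpty (pullback.fst f g)
    rw [Groth.Variety2.Dim.dim_eq_iSup_height, Groth.Variety2.Dim.dim_eq_iSup_height X, iSup_of_empty,
      iSup_of_empty, WithBot.bot_add]
  rcases isEmpty_or_nonempty ↥Y with hY | hY
  · have : IsEmpty ↥(pullback f g) := Function.isEmpty (pullback.snd f g)
    rw [Groth.Variety2.Dim.dim_eq_iSup_height, Groth.Variety2.Dim.dim_eq_iSup_height Y, iSup_of_empty,
      iSup_of_empty, WithBot.add_bot]
  have hpt : ∀ (a : X) (b : Y), ∃ z : (pullback f g : Scheme.{u}), pullback.fst f g z = a ∧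
      pullback.snd f g z = b := fun a b =>
    Scheme.Pullback.exists_preimage_pullback a b (Subsingleton.elim _ _)
  have : Nonempty ↥(pullback f g) := ⟨(hpt (Classical.arbitrary _) (Classical.arbitrary _)).choose⟩
  rw [Groth.Variety2.Dim.dim_eq_iSup_height, Groth.Variety2.Dim.dim_eq_iSup_height X,
    Groth.Variety2.Dim.dim_eq_iSup_height Y, ← WithBot.coe_iSup (OrderTop.bddAbove _),
    ← WithBot.coe_iSup (OrderTop.bddAbove _), ← WithBot.coe_iSup (OrderTop.bddAbove _), ← WithBot.coe_add]
  refine congrArg _ (le_antisymm (iSup_le fun z => ?_) (ENat.iSup_add_iSup_le fun a b => ?_))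
  · obtain ⟨z₀, hz₀, -, hm⟩ := exists_maximal_specializes z
    refine le_trans (Order.height_mono (show z ≤ z₀ from hz₀)) ?_
    rw [height_eq_add f g z₀ fun z' hz' _ _ => hm z' hz']
    exact add_le_add (le_iSup (fun a : X => Order.height a) _) (le_iSup (fun b : Y => Order.height b) _)
  · obtain ⟨z, hza, hzb⟩ := hpt a b
    let D : Set (pullback f g : Scheme.{u}) :=
      pullback.fst f g ⁻¹' closure {a} ∩ pullback.snd f g ⁻¹' closure {b}
    have hD : IsClosed D := (isClosed_closure.preimage (pullback.fst f g).continuous).inter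
      (isClosed_closure.preimage (pullback.snd f g).continuous)
    have : QuasiSober D := hD.isClosedEmbedding_subtypeVal.quasiSober
    obtain ⟨w, hw, -, hwm⟩ := exists_maximal_specializes
      (⟨z, show pullback.fst f g z ∈ closure {a} from hza ▸ subset_closure rfl,
        show pullback.snd f g z ∈ closure {b} from hzb ▸ subset_closure rfl⟩ : D)
    have hw' : w.1 ⤳ z := hw.map continuous_subtype_val
    have e1 : pullback.fst f g w.1 = a :=
      ((specializes_iff_mem_closure.2 w.2.1).antisymm (hza ▸ hw'.map (pullback.fst f g).continuous)).eq.symm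
    have e2 : pullback.snd f g w.1 = b :=
      ((specializes_iff_mem_closure.2 w.2.2).antisymm (hzb ▸ hw'.map (pullback.snd f g).continuous)).eq.symm
    refine le_trans (le_of_eq ?_) (le_iSup (fun c => Order.height c) w.1)
    rw [height_eq_add f g w.1 fun z' hz' h1 h2 => ?_, e1, e2]
    exact congrArg Subtype.val (hwm ⟨z', show pullback.fst f g z' ∈ closure {a} from h1.trans e1 ▸ subset_closure rfl,
      show pullback.snd f g z' ∈ closure {b} from h2.trans e2 ▸ subset_closure rfl⟩
      (subtype_specializes_iff _ _ |>.2 hz'))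

/-- The components of a product. -/
theorem mem_components_prod_iff (W : Set (pullback f g : Scheme.{u})) :
    W ∈ irreducibleComponents ↥(pullback f g) ↔
      ∃ X' ∈ irreducibleComponents ↥X, ∃ Y' ∈ irreducibleComponents ↥Y,
        Maximal (fun V : Set ↥(pullback f g) => IsIrreducible V ∧
          V ⊆ pullback.fst f g ⁻¹' X' ∩ pullback.snd f g ⁻¹' Y') W := by
  constructor
  · intro hW
    obtain ⟨z, hz⟩ := QuasiSober.sober hW.1 (isClosed_of_mem_irreducibleComponents _ hW)
    have hm := component_maximal hW hz
    refine ⟨_, closure_mem_components (fst_maximal f g hm), _, closure_mem_components (snd_maximal f g hm),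
      ⟨hW.1, fun w hw => ?_⟩, fun V hV hle => hW.2 hV.1 hle⟩
    exact ⟨((hz.specializes hw).map (pullback.fst f g).continuous).mem_closure,
      ((hz.specializes hw).map (pullback.snd f g).continuous).mem_closure⟩
  · rintro ⟨X', hX', Y', hY', hWm⟩
    have hXc := isClosed_of_mem_irreducibleComponents _ hX'
    have hYc := isClosed_of_mem_irreducibleComponents _ hY'
    have hD : IsClosed (pullback.fst f g ⁻¹' X' ∩ pullback.snd f g ⁻¹' Y') :=
      (hXc.preimage (pullback.fst f g).continuous).inter (hYc.preimage (pullback.snd f g).continuous)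
    have hWc : IsClosed W := closure_subset_iff_isClosed.1
      (hWm.2 ⟨hWm.1.1.closure, closure_minimal hWm.1.2 hD⟩ subset_closure)
    obtain ⟨w, hw⟩ := QuasiSober.sober hWm.1.1 hWc
    have hwD := hWm.1.2 hw.mem
    have key : ∀ c, c ⤳ w → c ∈ pullback.fst f g ⁻¹' X' ∩ pullback.snd f g ⁻¹' Y' → c = w := by
      intro c hc hcD
      have hcl : W ⊆ closure {c} :=
        hw.def ▸ closure_minimal (singleton_subset_iff.2 hc.mem_closure) isClosed_closure
      exact IsGenericPoint.eq (show IsGenericPoint c W from
        (hWm.2 ⟨isIrreducible_singleton.closure, closure_minimal (singleton_subset_iff.2 hcD) hD⟩ hcl).antisymm hcl) hw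
    obtain ⟨ξ, hξ⟩ := QuasiSober.sober hX'.1 hXc
    obtain ⟨η, hη⟩ := QuasiSober.sober hY'.1 hYc
    have e1 : pullback.fst f g w = ξ := by
      obtain ⟨c, hc, hc1, hc2⟩ := exists_generalization_fst f g w (hξ.specializes hwD.1)
      rw [← key c hc ⟨show pullback.fst f g c ∈ X' from hc1 ▸ hξ.mem,
        show pullback.snd f g c ∈ Y' from hc2 ▸ hwD.2⟩]
      exact hc1
    have e2 : pullback.snd f g w = η := by
      obtain ⟨c, hc, hc1, hc2⟩ := exists_generalization_fst g f ((pullbackSymmetry f g).hom w)
        (x := η) (by rw [← Scheme.Hom.comp_apply, pullbackSymmetry_hom_comp_fst]; exact hη.specializes hwD.2)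
      have hsymm : (pullbackSymmetry f g).inv ((pullbackSymmetry f g).hom w) = w := by
        rw [← Scheme.Hom.comp_apply, Iso.hom_inv_id]; rfl
      rw [← Scheme.Hom.comp_apply, pullbackSymmetry_hom_comp_snd] at hc2
      have h1 : pullback.snd f g ((pullbackSymmetry f g).inv c) = η := by
        rw [← Scheme.Hom.comp_apply, pullbackSymmetry_inv_comp_snd]; exact hc1
      have h2 : pullback.fst f g ((pullbackSymmetry f g).inv c) = pullback.fst f g w := by
        rw [← Scheme.Hom.comp_apply, pullbackSymmetry_inv_comp_fst]; exact hc2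
      rw [← key ((pullbackSymmetry f g).inv c)
        (hsymm ▸ hc.map (pullbackSymmetry f g).inv.continuous)
        ⟨show pullback.fst f g _ ∈ X' from h2 ▸ hwD.1, show pullback.snd f g _ ∈ Y' from h1 ▸ hη.mem⟩]
      exact h1
    rw [← hw.def]
    refine closure_mem_components fun c hc => key c hc ⟨?_, ?_⟩
    · show pullback.fst f g c ∈ X'
      rw [component_maximal hX' hξ (pullback.fst f g c) (e1 ▸ hc.map (pullback.fst f g).continuous)]
      exact hξ.mem
    · show pullback.snd f g c ∈ Y'
      rw [component_maximal hY' hη (pullback.snd f g c) (e2 ▸ hc.map (pullback.snd f g).continuous)]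
      exact hη.mem
where
  closure_mem_components {α : Type u} [TopologicalSpace α] [QuasiSober α] [T0Space α] {y : α}
      (h : ∀ g, g ⤳ y → g = y) : closure {y} ∈ irreducibleComponents α := by
    obtain ⟨a, ha, hC, -⟩ := exists_maximal_specializes y
    have := h a ha
    subst this
    exact hC ▸ irreducibleComponent_mem_irreducibleComponents a

end Groth.FBaseGeom
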