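/-
Lengths of local rings at maximal points along flat morphisms, through a nilpotent thickening.
-/
import Groth.Prelude.Def_FDesc
import Groth.Agent.PropsBasic2.Reduced
import Groth.Agent.Ega4Algebra2.SchemeFibre
import Groth.Agent.Misc1.InsepCycles.AlgLength
import Mathlib.RingTheory.LocalRing.Length

open CategoryTheory CategoryTheory.Limits AlgebraicGeometry IsLocalRing

universe u

set_option backward.isDefEq.respectTransparency false
set_option linter.style.haveILetI false
set_option maxHeartbeats 800000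

namespace Groth.FBaseGeom

theorem isIso_residueFieldMap_of_surjective_stalkMap {Y W : Scheme.{u}} (g : Y ⟶ W) (y : Y)
    (h : Function.Surjective (g.stalkMap y).hom) : IsIso (g.residueFieldMap y) := by
  rw [ConcreteCategory.isIso_iff_bijective]
  refine ⟨(g.residueFieldMap y).hom.injective, fun a => ?_⟩
  obtain ⟨b, rfl⟩ := Ideal.Quotient.mk_surjective a
  obtain ⟨c, rfl⟩ := h b
  exact ⟨Ideal.Quotient.mk _ c, rfl⟩

theorem isField_stalk_of_maximal {Z : Scheme.{u}} [IsReduced Z] {z : Z} (h : ∀ w, w ⤳ z → w = z) :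
    IsField (Z.presheaf.stalk z) := by
  haveI : Ring.KrullDimLE 0 (Z.presheaf.stalk z) :=
    Ring.krullDimLE_iff.2 (Groth.Ega4b.ringKrullDim_stalk_eq_zero_of_maximal h).le
  exact Ring.KrullDimLE.isField_of_isReduced

theorem length_stalk_eq_one {Z : Scheme.{u}} [IsReduced Z] {z : Z} (h : ∀ w, w ⤳ z → w = z) :
    Module.length (Z.presheaf.stalk z) (Z.presheaf.stalk z) = 1 := by
  letI := (isField_stalk_of_maximal h).toField
  haveI : IsSimpleModule (Z.presheaf.stalk z) (Z.presheaf.stalk z) := (isSimpleModule_iff _ _).2 inferInstance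
  exact Module.length_eq_one _ _

/-- A flat morphism maps maximal points to maximal points. -/
theorem maximal_apply_of_flat {X'' X' : Scheme.{u}} (π : X'' ⟶ X') [Flat π] {x : X''}
    (hx : ∀ w, w ⤳ x → w = x) (w : X') (hw : w ⤳ π x) : w = π x := by
  obtain ⟨w', hw', rfl⟩ := Flat.generalizingMap π hw
  rw [hx w' hw']

/-- Multiplicativity of lengths at maximal points: `ℓ(X'') = ℓ(X') · ℓ(Z'')` for `Z'' = X'_red ×_{X'} X''`. -/
theorem length_stalk_eq_mul {X'' X' Z'' : Scheme.{u}} (π : X'' ⟶ X') [Flat π] (j : Z'' ⟶ X'')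
    (πZ : Z'' ⟶ X'.nilradical.subscheme) (h : IsPullback j πZ π X'.nilradical.subschemeι)
    (x : X'') (hx : ∀ w, w ⤳ x → w = x) (z : Z'') (hz : j z = x) :
    Module.length (X''.presheaf.stalk x) (X''.presheaf.stalk x) =
      Module.length (X'.presheaf.stalk (π x)) (X'.presheaf.stalk (π x)) *
        Module.length (Z''.presheaf.stalk z) (Z''.presheaf.stalk z) := by
  subst hz
  let ι := X'.nilradical.subschemeι
  let A := X'.presheaf.stalk (π (j z))
  let B := X''.presheaf.stalk (j z)
  letI : Algebra A B := (π.stalkMap (j z)).hom.toAlgebra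
  haveI : Module.Flat A B := Flat.stalkMap π (j z)
  haveI : IsLocalHom (algebraMap A B) := inferInstanceAs (IsLocalHom (π.stalkMap (j z)).hom)
  have key : Module.length B B = Module.length A A *
      Module.length B (B ⧸ (maximalIdeal A).map (algebraMap A B)) := by
    rw [← IsLocalRing.length_baseChange A B]
    exact (TensorProduct.AlgebraTensorModule.rid A B B).length_eq.symm
  rw [key]
  congr 1
  rw [Module.length_eq_of_surjective (S := B) (R := B ⧸ (maximalIdeal A).map (algebraMap A B))
    (M := B ⧸ (maximalIdeal A).map (algebraMap A B)) Ideal.Quotient.mk_surjective]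
  haveI : IsReduced X'.nilradical.subscheme := Groth.PropsBasic2.isReduced_nilradical_subscheme X'
  have hzmax : ∀ w, w ⤳ πZ z → w = πZ z := fun w hw => by
    refine ι.isEmbedding.injective ?_
    rw [show ι (πZ z) = π (j z) from congr($(h.w.symm) z)]
    exact maximal_apply_of_flat π hx _ ((hw.map ι.continuous).trans (specializes_of_eq congr($(h.w.symm) z)))
  obtain ⟨e2⟩ := Groth.Ega4b.nonempty_fiberStalk_equiv πZ z
  have hbot : (maximalIdeal (X'.nilradical.subscheme.presheaf.stalk (πZ z))).map (πZ.stalkMap z).hom = ⊥ := by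
    rw [isField_iff_maximalIdeal_eq.1 (isField_stalk_of_maximal hzmax), Ideal.map_bot]
  haveI := isIso_residueFieldMap_of_surjective_stalkMap ι (πZ z)
    (ι.stalkMap_surjective (πZ z))
  let F := πZ.fiber (πZ z)
  have sq0 : IsPullback (πZ.fiberι (πZ z) ≫ j) (πZ.fiberToSpecResidueField (πZ z)) π
      (X'.nilradical.subscheme.fromSpecResidueField (πZ z) ≫ ι) :=
    (IsPullback.of_hasPullback πZ (X'.nilradical.subscheme.fromSpecResidueField (πZ z))).paste_horiz h
  have sq1 : IsPullback (πZ.fiberι (πZ z) ≫ j)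
      (πZ.fiberToSpecResidueField (πZ z) ≫ Spec.map (ι.residueFieldMap (πZ z))) π
      (X'.fromSpecResidueField (ι (πZ z))) :=
    IsPullback.of_iso sq0 (Iso.refl _) (Iso.refl _) (asIso (Spec.map (ι.residueFieldMap (πZ z)))) (Iso.refl _)
      (by simp) (by simp) (by simp) (by simp [Scheme.Hom.SpecMap_residueFieldMap_fromSpecResidueField])
  let e := sq1.isoPullback
  have hv : π.fiberι (ι (πZ z)) (e.hom (πZ.asFiber z)) = j z := by
    refine (congrArg (fun q => q.base (πZ.asFiber z)) sq1.isoPullback_hom_fst).trans ?_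
    show j ((πZ.fiberι (πZ z)) (πZ.asFiber z)) = j z
    rw [Scheme.Hom.fiberι_asFiber]
  obtain ⟨e3⟩ := Groth.Ega4b.nonempty_fiber_stalk_equiv π (ι (πZ z)) (e.hom (πZ.asFiber z)) (j z) hv
  exact Groth.InsepCycles.length_ringEquiv
    (e3.trans (((asIso (e.hom.stalkMap (πZ.asFiber z))).commRingCatIsoToRingEquiv).trans
      (e2.symm.trans ((Ideal.quotEquivOfEq hbot).trans (RingEquiv.quotientBot _)))))

end Groth.FBaseGeom

namespace Groth.FBaseGeom

theorem isPullback_map_nilradical {S T X' : Scheme.{u}} (a : X' ⟶ S) (s : T ⟶ S) :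
    IsPullback (pullback.map (X'.nilradical.subschemeι ≫ a) s a s X'.nilradical.subschemeι (𝟙 _) (𝟙 _)
        (Category.comp_id _) ((Category.comp_id _).trans (Category.id_comp _).symm))
      (pullback.fst (X'.nilradical.subschemeι ≫ a) s) (pullback.fst a s) X'.nilradical.subschemeι :=
  (IsPullback.of_bot (by simpa using IsPullback.of_hasPullback (X'.nilradical.subschemeι ≫ a) s)
    (by simp) (IsPullback.of_hasPullback a s)).flip

end Groth.FBaseGeom
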