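/-
The tensor product of two fields over a field has no embedded primes.
-/
import Mathlib

universe u

set_option autoImplicit false
set_option linter.style.haveILetI false

open scoped TensorProduct

namespace Groth.FBaseGeom

/-- `k(x) ⊗ₖ L` is a domain for algebraically independent `x`. -/
theorem isDomain_adjoin_tensor (k L K : Type u) [Field k] [Field L] [Field K] [Algebra k L] [Algebra k K]
    {ι : Type u} (x : ι → K) (hx : AlgebraicIndependent k x) :
    IsDomain (IntermediateField.adjoin k (Set.range x) ⊗[k] L) := by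
  classical
  let M := IntermediateField.adjoin k (Set.range x)
  let P := MvPolynomial ι k
  let xM : ι → M := fun i => ⟨x i, IntermediateField.subset_adjoin k _ ⟨i, rfl⟩⟩
  let f : P →ₐ[k] M := MvPolynomial.aeval xM
  have hfval : ∀ a, (f a : K) = MvPolynomial.aeval x a := fun a =>
    MvPolynomial.comp_aeval_apply _ M.val a
  have hf : Function.Injective f := fun a b h => hx (by rw [← hfval, ← hfval, h])
  let ψ : P ⊗[k] L →ₐ[k] M ⊗[k] L := Algebra.TensorProduct.map f (AlgHom.id k L)
  have hψ : Function.Injective ψ :=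
    Module.Flat.rTensor_preserves_injective_linearMap (M := L) f.toLinearMap hf
  let e := (Algebra.TensorProduct.comm k P L).toRingEquiv.trans
    (MvPolynomial.algebraTensorAlgEquiv k L).toRingEquiv
  haveI : IsDomain (P ⊗[k] L) := MulEquiv.isDomain _ e.toMulEquiv
  have hfrac : ∀ z : M ⊗[k] L, ∃ (s₀ : P) (w : P ⊗[k] L), f s₀ ≠ 0 ∧ ψ (s₀ ⊗ₜ 1) * z = ψ w := by
    intro z
    induction z using TensorProduct.induction_on with
    | zero => exact ⟨1, 0, by simp, by simp⟩
    | tmul m c =>
      obtain ⟨a, b, hab⟩ := IntermediateField.mem_adjoin_range_iff k _ _ |>.1 m.2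
      rcases eq_or_ne (f b) 0 with hb | hb
      · refine ⟨1, 0, by simp, ?_⟩
        have : m = 0 := Subtype.ext (by rw [hab, ← hfval b, hb]; simp)
        simp [this]
      · refine ⟨b, a ⊗ₜ c, hb, ?_⟩
        have : f b * m = f a := Subtype.ext (by
          rw [MulMemClass.coe_mul, hfval, hfval, hab,
            mul_div_cancel₀ _ (fun h => hb (Subtype.ext (by rw [hfval, h]; rfl)))])
        rw [Algebra.TensorProduct.map_tmul, map_one, Algebra.TensorProduct.tmul_mul_tmul, one_mul, this]
        rfl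
    | add y z hy hz =>
      obtain ⟨s, w, hs, hw⟩ := hy
      obtain ⟨t, v, ht, hv⟩ := hz
      refine ⟨s * t, (t ⊗ₜ 1) * w + (s ⊗ₜ 1) * v, by simp [hs, ht], ?_⟩
      have h3 : (s * t) ⊗ₜ[k] (1 : L) = (s ⊗ₜ 1) * (t ⊗ₜ 1) := by
        rw [Algebra.TensorProduct.tmul_mul_tmul, one_mul]
      rw [h3, map_add, map_mul, map_mul, map_mul, ← hw, ← hv]
      ring
  have hu : ∀ s₀ : P, f s₀ ≠ 0 → IsUnit (ψ (s₀ ⊗ₜ 1)) := fun s₀ h => by
    rw [Algebra.TensorProduct.map_tmul, map_one]
    exact (Ne.isUnit h).map (Algebra.TensorProduct.includeLeft : M →ₐ[k] M ⊗[k] L)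
  haveI : NoZeroDivisors (M ⊗[k] L) := ⟨fun {y z} hyz => by
    obtain ⟨s, w, hs, hw⟩ := hfrac y
    obtain ⟨t, v, ht, hv⟩ := hfrac z
    have h0 : w * v = 0 := hψ (by
      rw [map_mul, map_zero, ← hw, ← hv]
      linear_combination (ψ (s ⊗ₜ 1) * ψ (t ⊗ₜ 1)) * hyz)
    rcases mul_eq_zero.mp h0 with rfl | rfl
    · rw [map_zero] at hw
      left
      exact (hu s hs).mul_left_cancel (hw.trans (mul_zero _).symm)
    · rw [map_zero] at hv
      right
      exact (hu t ht).mul_left_cancel (hv.trans (mul_zero _).symm)⟩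
  haveI : Nontrivial (M ⊗[k] L) := hψ.nontrivial
  exact NoZeroDivisors.to_isDomain (M ⊗[k] L)

/-- A prime whose elements are all zero divisors, in an integral flat algebra over a domain, is minimal. -/
theorem mem_minimalPrimes_of_integral_flat {R A : Type u} [CommRing R] [IsDomain R] [CommRing A]
    [Algebra R A] [Algebra.IsIntegral R A] [Module.Flat R A] (P : Ideal A) [P.IsPrime]
    (h : ∀ a ∈ P, a ∉ nonZeroDivisors A) : P ∈ minimalPrimes A := by
  have h0 : ∀ r : R, algebraMap R A r ∈ P → r = 0 := fun r hr => by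
    by_contra hne
    refine h _ hr (mem_nonZeroDivisors_iff_right.mpr fun a ha => ?_)
    have hreg : IsSMulRegular A r :=
      Module.Flat.isSMulRegular_of_nonZeroDivisors (mem_nonZeroDivisors_of_ne_zero hne)
    refine hreg ?_
    simpa [Algebra.smul_def, mul_comm] using ha
  refine ⟨⟨inferInstance, bot_le⟩, fun Q hQ hle => ?_⟩
  by_contra hne
  haveI := hQ.1
  have hlt : Q < P := lt_of_le_not_ge hle hne
  obtain ⟨r, hr, hr'⟩ := SetLike.exists_of_lt (Ideal.IsIntegral.comap_lt_comap (R := R) hlt)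
  exact hr' (by rw [h0 r hr]; exact zero_mem _)

theorem mem_minimalPrimes_tensor_of_isAlgebraic (k E K L : Type u) [Field k] [Field E] [Field K] [Field L]
    [Algebra k E] [Algebra k K] [Algebra k L] [Algebra E K] [IsScalarTower k E K] [Algebra.IsAlgebraic E K]
    [IsDomain (E ⊗[k] L)] (P : Ideal (K ⊗[k] L)) [P.IsPrime]
    (h : ∀ a ∈ P, a ∉ nonZeroDivisors (K ⊗[k] L)) : P ∈ minimalPrimes (K ⊗[k] L) := by
  let e : (E ⊗[k] L) ⊗[E] K ≃+* K ⊗[k] L := (Algebra.TensorProduct.comm E (E ⊗[k] L) K).toRingEquiv.trans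
    (Algebra.TensorProduct.cancelBaseChange k E E K L).toRingEquiv
  have h' : ∀ a ∈ P.comap e, a ∉ nonZeroDivisors ((E ⊗[k] L) ⊗[E] K) := fun a ha hreg =>
    h (e a) ha (mem_nonZeroDivisors_iff_right.mpr fun b hb => by
      have : e.symm b = 0 := mem_nonZeroDivisors_iff_right.mp hreg _ (e.injective (by simpa using hb))
      simpa using congrArg e this)
  haveI : Algebra.IsIntegral E K := Algebra.IsAlgebraic.isIntegral
  have hmin := mem_minimalPrimes_of_integral_flat (R := E ⊗[k] L) (P.comap e) h'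
  refine ⟨⟨inferInstance, bot_le⟩, fun Q hQ hle => ?_⟩
  haveI := hQ.1
  intro x hx
  have := hmin.2 ⟨inferInstanceAs (Ideal.comap e Q).IsPrime, bot_le⟩ (Ideal.comap_mono hle)
    (show e.symm x ∈ P.comap e by rw [Ideal.mem_comap, e.apply_symm_apply]; exact hx)
  rwa [Ideal.mem_comap, e.apply_symm_apply] at this

theorem associatedPrimes_tensor_subset (k K L : Type u) [Field k] [Field K] [Field L] [Algebra k K]
    [Algebra k L] (P : Ideal (K ⊗[k] L)) [P.IsPrime]
    (h : ∀ a ∈ P, a ∉ nonZeroDivisors (K ⊗[k] L)) : P ∈ minimalPrimes (K ⊗[k] L) := by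
  obtain ⟨s, hs⟩ := exists_isTranscendenceBasis k K
  haveI : Algebra.IsAlgebraic (IntermediateField.adjoin k (Set.range ((↑) : s → K))) K := hs.isAlgebraic_field
  haveI : IsDomain (IntermediateField.adjoin k (Set.range ((↑) : s → K)) ⊗[k] L) :=
    isDomain_adjoin_tensor k L K _ hs.1
  exact mem_minimalPrimes_tensor_of_isAlgebraic k (IntermediateField.adjoin k (Set.range ((↑) : s → K))) K L P h

end Groth.FBaseGeom
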