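/-
Associated points of a product of integral schemes over a field.
-/
import Groth.Prelude.Def_FDesc
import Groth.Agent.Divisors.AssocMore
import Groth.Agent.VarietyBC.Reduced
import Groth.Agent.VarietyBC.Fibre
import Groth.Agent.FBaseGeom.TensorFields

open CategoryTheory CategoryTheory.Limits AlgebraicGeometry TensorProduct

universe u

set_option backward.isDefEq.respectTransparency false
set_option linter.style.haveILetI false
set_option maxHeartbeats 800000

namespace Groth.FBaseGeom

open Groth.VarietyBC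

theorem zero_divisors_of_isAssPoint {Z : Scheme.{u}} {z : Z}
    (h : Curv2.IsAssPoint (Coh.structureModule Z) z) :
    ∀ a ∈ IsLocalRing.maximalIdeal (Z.presheaf.stalk z), a ∉ nonZeroDivisors (Z.presheaf.stalk z) := by
  rw [Groth.Divisors.isAssPoint_iff_weak] at h
  obtain ⟨U, hzU, -⟩ := Groth.Divisors.exists_affine_le z ⊤ trivial
  rw [Groth.Divisors.isWeakAssPoint_iff_weakAss (Groth.Divisors.isQCoh_structureModule Z) U.2 hzU,
    Calg5.mem_weakAss_iff] at h
  obtain ⟨hp, m, h1, h2⟩ := h
  let p := (U.2.primeIdealOf ⟨z, hzU⟩).asIdeal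
  letI : Algebra Γ(Z, U.1) (Z.presheaf.stalk z) := (Z.presheaf.germ U.1 z hzU).hom.toAlgebra
  haveI : IsLocalization.AtPrime (Z.presheaf.stalk z) p := U.2.isLocalization_stalk ⟨z, hzU⟩
  intro a ha hreg
  obtain ⟨⟨r, c⟩, hrc⟩ := IsLocalization.surj p.primeCompl a
  have hr : r ∈ p := by
    rw [← IsLocalization.AtPrime.to_map_mem_maximal_iff (Z.presheaf.stalk z) p r, ← hrc]
    exact Ideal.mul_mem_right _ _ ha
  obtain ⟨s, hs, n, hn⟩ := h2 r hr
  let m' : Γ(Z, U.1) := m
  have hn' : s * r ^ n * m' = 0 := hn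
  have hg := congrArg (algebraMap Γ(Z, U.1) (Z.presheaf.stalk z)) hn'
  rw [map_mul, map_mul, map_pow, ← hrc, map_zero, mul_assoc] at hg
  have hm0 := (IsLocalization.map_units (Z.presheaf.stalk z) (⟨s, hs⟩ : p.primeCompl)).mul_right_eq_zero.mp hg
  have hreg' : (a * algebraMap Γ(Z, U.1) (Z.presheaf.stalk z) c) ^ n ∈ nonZeroDivisors (Z.presheaf.stalk z) :=
    pow_mem (mul_mem hreg (IsLocalization.map_units (Z.presheaf.stalk z) c).mem_nonZeroDivisors) n
  obtain ⟨e, he⟩ := (IsLocalization.map_eq_zero_iff p.primeCompl (Z.presheaf.stalk z) m').mp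
    (mem_nonZeroDivisors_iff_right.mp hreg' _ (by rw [mul_comm]; exact hm0))
  exact e.2 (h1 e he)

theorem zero_divisors_of_localization {A : Type u} [CommRing A] (P : Ideal A) [P.IsPrime]
    (h : ∀ a ∈ IsLocalRing.maximalIdeal (Localization.AtPrime P), a ∉ nonZeroDivisors (Localization.AtPrime P)) :
    ∀ a ∈ P, a ∉ nonZeroDivisors A := by
  intro a ha hreg
  refine h _ ((IsLocalization.AtPrime.to_map_mem_maximal_iff _ P a).mpr ha)
    (mem_nonZeroDivisors_iff_right.mpr fun x hx => ?_)
  obtain ⟨⟨t, c⟩, htc⟩ := IsLocalization.surj P.primeCompl x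
  have h0 : algebraMap A (Localization.AtPrime P) (t * a) = 0 := by
    rw [map_mul, ← htc, mul_right_comm, hx, zero_mul]
  obtain ⟨e, he⟩ := (IsLocalization.map_eq_zero_iff P.primeCompl _ _).mp h0
  have ht : (e : A) * t = 0 := mem_nonZeroDivisors_iff_right.mp hreg _ (by rw [mul_assoc]; exact he)
  have : algebraMap A (Localization.AtPrime P) t = 0 :=
    (IsLocalization.map_eq_zero_iff P.primeCompl _ _).mpr ⟨e, ht⟩
  rw [← htc] at this
  exact (IsLocalization.map_units _ c).mul_left_eq_zero.mp this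

/-- A flat morphism to an integral scheme maps a point with only zero divisors to the generic point. -/
theorem eq_genericPoint_of_zero_divisors {Z X : Scheme.{u}} [IsIntegral X] (π : Z ⟶ X) [Flat π] (z : Z)
    (h : ∀ a ∈ IsLocalRing.maximalIdeal (Z.presheaf.stalk z), a ∉ nonZeroDivisors (Z.presheaf.stalk z)) :
    π z = genericPoint X := by
  let R := X.presheaf.stalk (π z)
  letI : Algebra R (Z.presheaf.stalk z) := (π.stalkMap z).hom.toAlgebra
  haveI : Module.Flat R (Z.presheaf.stalk z) := Flat.stalkMap π z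
  haveI : IsLocalHom (algebraMap R (Z.presheaf.stalk z)) := inferInstanceAs (IsLocalHom (π.stalkMap z).hom)
  have hm : IsLocalRing.maximalIdeal R = ⊥ := by
    rw [eq_bot_iff]
    intro r hr
    by_contra hne
    refine h _ ((IsLocalRing.mem_maximalIdeal _).mpr fun hu => (IsLocalRing.mem_maximalIdeal r).mp hr
      (isUnit_of_map_unit (algebraMap R _) r hu)) (mem_nonZeroDivisors_iff_right.mpr fun b hb => ?_)
    refine Module.Flat.isSMulRegular_of_nonZeroDivisors (R := R) (M := Z.presheaf.stalk z)
      (mem_nonZeroDivisors_of_ne_zero (by simpa using hne)) ?_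
    show r • b = r • (0 : Z.presheaf.stalk z)
    rw [smul_zero, Algebra.smul_def, mul_comm]
    exact hb
  have hs : genericPoint (X : Type u) ∈ Set.range (X.fromSpecStalk (π z)) := by
    rw [Scheme.range_fromSpecStalk]
    exact (genericPoint_spec X).specializes (Set.mem_univ (π z))
  obtain ⟨q, hq⟩ := hs
  have : q = IsLocalRing.closedPoint R := PrimeSpectrum.ext
    ((eq_bot_iff.2 (hm ▸ IsLocalRing.le_maximalIdeal q.2.ne_top)).trans hm.symm)
  rw [← hq, this]
  exact Scheme.fromSpecStalk_closedPoint.symm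

variable {k : Type u} [Field k] {X Y : Scheme.{u}} [X.Over (Spec (CommRingCat.of k))]
  [Y.Over (Spec (CommRingCat.of k))] [IsIntegral X] [IsIntegral Y]

theorem eq_of_specializes_of_zero_divisors
    (z : ↑(pullback (X ↘ (Spec (CommRingCat.of k))) (Y ↘ (Spec (CommRingCat.of k)))))
    (h : ∀ a ∈ IsLocalRing.maximalIdeal ((pullback (X ↘ (Spec (CommRingCat.of k)))
        (Y ↘ (Spec (CommRingCat.of k)))).presheaf.stalk z),
      a ∉ nonZeroDivisors ((pullback (X ↘ (Spec (CommRingCat.of k)))
        (Y ↘ (Spec (CommRingCat.of k)))).presheaf.stalk z))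
    (w : ↑(pullback (X ↘ (Spec (CommRingCat.of k))) (Y ↘ (Spec (CommRingCat.of k))))) (hw : w ⤳ z) :
    w = z := by
  let π₁ := pullback.fst (X ↘ (Spec (CommRingCat.of k))) (Y ↘ (Spec (CommRingCat.of k)))
  let π₂ := pullback.snd (X ↘ (Spec (CommRingCat.of k))) (Y ↘ (Spec (CommRingCat.of k)))
  have hfl : ∀ {W : Scheme.{u}} (g : W ⟶ Spec (CommRingCat.of k)), Flat g := fun g => inferInstance
  haveI : Flat π₁ := MorphismProperty.pullback_fst _ _ (hfl _)
  haveI : Flat π₂ := MorphismProperty.pullback_snd _ _ (hfl _)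
  letI := Curv2.stalkAlgebra k X (genericPoint X)
  letI := Curv2.stalkAlgebra k Y (genericPoint Y)
  let m : Spec (CommRingCat.of (X.functionField ⊗[k] Y.functionField)) ⟶
      pullback (X ↘ (Spec (CommRingCat.of k))) (Y ↘ (Spec (CommRingCat.of k))) :=
    (pullbackSpecIso k X.functionField Y.functionField).inv ≫
      pullback.map _ _ _ _ (X.fromSpecStalk (genericPoint X)) (Y.fromSpecStalk (genericPoint Y)) (𝟙 _)
        (by rw [Category.comp_id, fromSpecStalk_str]; rfl) (by rw [Category.comp_id, fromSpecStalk_str]; rfl)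
  haveI := flat_fromSpecStalk X (genericPoint X)
  haveI := flat_fromSpecStalk Y (genericPoint Y)
  have hP : ∀ (P : MorphismProperty Scheme.{u}) [P.IsStableUnderBaseChange] [P.IsMultiplicative],
      P (X.fromSpecStalk (genericPoint X)) → P (Y.fromSpecStalk (genericPoint Y)) → P m := fun P _ _ h₁ h₂ => by
    have : P.RespectsIso := MorphismProperty.IsStableUnderBaseChange.respectsIso
    rw [MorphismProperty.cancel_left_of_respectsIso P]
    exact P.pullbackMap h₁ h₂ (fromSpecStalk_str _).symm (fromSpecStalk_str _).symm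
  haveI : IsPreimmersion m := hP (@IsPreimmersion : MorphismProperty Scheme.{u}) inferInstance inferInstance
  haveI : Flat m := hP (@Flat : MorphismProperty Scheme.{u}) inferInstance inferInstance
  have hrange : ∀ v, π₁ v = genericPoint X → π₂ v = genericPoint Y → v ∈ Set.range m := by
    intro v h₁ h₂
    rw [Scheme.Hom.comp_base, TopCat.coe_comp, (Scheme.Hom.surjective _).range_comp,
      Scheme.Pullback.range_map]
    exact ⟨(X.range_fromSpecStalk (x := genericPoint X)).ge (specializes_of_eq h₁),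
      (Y.range_fromSpecStalk (x := genericPoint Y)).ge (specializes_of_eq h₂)⟩
  have hz₁ := eq_genericPoint_of_zero_divisors π₁ z h
  have hz₂ := eq_genericPoint_of_zero_divisors π₂ z h
  have hw₁ : π₁ w = genericPoint X :=
    ((hz₁ ▸ hw.map π₁.continuous : π₁ w ⤳ genericPoint X).antisymm
      ((genericPoint_spec X).specializes (Set.mem_univ _))).eq
  have hw₂ : π₂ w = genericPoint Y :=
    ((hz₂ ▸ hw.map π₂.continuous : π₂ w ⤳ genericPoint Y).antisymm
      ((genericPoint_spec Y).specializes (Set.mem_univ _))).eq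
  obtain ⟨P, rfl⟩ := hrange z hz₁ hz₂
  obtain ⟨Q, rfl⟩ := hrange w hw₁ hw₂
  have hQP : Q ⤳ P := m.isEmbedding.isInducing.specializes_iff.mp hw
  haveI := isIso_stalkMap_of_flat_preimmersion m P
  let e := (asIso (m.stalkMap P) ≪≫ Spec.stalkIso _ P).commRingCatIsoToRingEquiv
  have hloc : ∀ a ∈ IsLocalRing.maximalIdeal (Localization.AtPrime P.asIdeal),
      a ∉ nonZeroDivisors (Localization.AtPrime P.asIdeal) := fun a ha hreg => by
    refine h (e.symm a) ?_ (mem_nonZeroDivisors_iff_right.mpr fun b hb => ?_)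
    · rw [IsLocalRing.mem_maximalIdeal] at ha ⊢
      exact fun hu => ha (by simpa using hu.map e)
    · have : e b = 0 := mem_nonZeroDivisors_iff_right.mp hreg _ (e.symm.injective (by simpa using hb))
      simpa using congrArg e.symm this
  have hmin := associatedPrimes_tensor_subset k X.functionField Y.functionField P.asIdeal
    (zero_divisors_of_localization P.asIdeal hloc)
  have hle := (PrimeSpectrum.le_iff_specializes _ _).mpr hQP
  exact congrArg m (PrimeSpectrum.ext (le_antisymm hle (hmin.2 ⟨Q.2, bot_le⟩ hle)))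

end Groth.FBaseGeom
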