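import Groth.Agent.FBaseGeom.AssTensor
import Groth.Agent.FBaseGeom.ProdAss
import Groth.Agent.FlatMorOne.FlatBaseChangeScheme

/-!
Associated points of `F ⊗_S G` on a fibre product.
-/

set_option autoImplicit false
set_option linter.style.haveILetI false
set_option backward.isDefEq.respectTransparency false

universe u

open CategoryTheory CategoryTheory.Limits AlgebraicGeometry TensorProduct IsLocalRing

namespace Groth.FBaseGeom

variable {X Y S : Scheme.{u}} (f : X ⟶ S) (g : Y ⟶ S)

/-- The scheme `Spec κ(x) ×_S Spec κ(y)`. -/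
noncomputable abbrev prodPts (x : X) (y : Y) : Scheme.{u} :=
  pullback (X.fromSpecResidueField x ≫ f) (Y.fromSpecResidueField y ≫ g)

/-- Its canonical monomorphism into `X ×_S Y`. -/
noncomputable abbrev prodPtsι (x : X) (y : Y) : prodPts f g x y ⟶ pullback f g :=
  pullback.map _ _ f g (X.fromSpecResidueField x) (Y.fromSpecResidueField y) (𝟙 S)
    (Category.comp_id _) (Category.comp_id _)

instance (x : X) (y : Y) : IsPreimmersion (prodPtsι f g x y) :=
  MorphismProperty.pullbackMap (P := (@IsPreimmersion : MorphismProperty Scheme.{u})) (i₁ := X.fromSpecResidueField x)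
    (i₂ := Y.fromSpecResidueField y) inferInstance inferInstance rfl rfl

theorem fst_prodPtsι (x : X) (y : Y) (t : prodPts f g x y) :
    pullback.fst f g (prodPtsι f g x y t) = x := by
  rw [← Scheme.Hom.comp_apply, pullback.lift_fst, Scheme.Hom.comp_apply,
    Scheme.fromSpecResidueField_apply]

theorem snd_prodPtsι (x : X) (y : Y) (t : prodPts f g x y) :
    pullback.snd f g (prodPtsι f g x y t) = y := by
  rw [← Scheme.Hom.comp_apply, pullback.lift_snd, Scheme.Hom.comp_apply,
    Scheme.fromSpecResidueField_apply]

theorem apply_eq_of_prodPts (x : X) (y : Y) (t : prodPts f g x y) : g y = f x := by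
  have h := congr($(pullback.condition (f := f) (g := g)) (prodPtsι f g x y t))
  rw [Scheme.Hom.comp_apply, Scheme.Hom.comp_apply, fst_prodPtsι, snd_prodPtsι] at h
  exact h.symm

/-- `Spec κ(x) ×_S Spec κ(y)` has no embedded associated points. -/
theorem prodPts_eq_of_specializes (x : X) (y : Y) (t w : prodPts f g x y)
    (ht : t ∈ AssSch.Ass (Coh.structureModule (prodPts f g x y))) (hw : w ⤳ t) : w = t := by
  have hxy := apply_eq_of_prodPts f g x y t
  let k : CommRingCat.{u} := S.residueField (f x)
  let a : Spec (X.residueField x) ⟶ Spec k := Spec.map (f.residueFieldMap x)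
  let b : Spec (Y.residueField y) ⟶ Spec k :=
    Spec.map (g.residueFieldMap y) ≫ Spec.map (S.residueFieldCongr hxy.symm).hom
  have ha : X.fromSpecResidueField x ≫ f = a ≫ S.fromSpecResidueField (f x) :=
    (Scheme.Hom.SpecMap_residueFieldMap_fromSpecResidueField f x).symm
  have hb : Y.fromSpecResidueField y ≫ g = b ≫ S.fromSpecResidueField (f x) := by
    rw [Category.assoc, Scheme.residueFieldCongr_fromSpecResidueField,
      Scheme.Hom.SpecMap_residueFieldMap_fromSpecResidueField]
  let e : prodPts f g x y ⟶ pullback a b := pullback.lift (pullback.fst _ _) (pullback.snd _ _) (by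
    rw [← cancel_mono (S.fromSpecResidueField (f x)), Category.assoc, Category.assoc, ← ha, ← hb]
    exact pullback.condition)
  haveI : IsIso e := ⟨pullback.lift (pullback.fst _ _) (pullback.snd _ _)
    (by rw [ha, hb, pullback.condition_assoc]),
    pullback.hom_ext (by simp [e]) (by simp [e]), pullback.hom_ext (by simp [e]) (by simp [e])⟩
  letI : (Spec (X.residueField x)).Over (Spec (CommRingCat.of k)) := ⟨a⟩
  letI : (Spec (Y.residueField y)).Over (Spec (CommRingCat.of k)) := ⟨b⟩
  have hbij := ConcreteCategory.bijective_of_isIso (e.stalkMap t)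
  have hz : ∀ r ∈ maximalIdeal ((pullback a b).presheaf.stalk (e t)),
      r ∉ nonZeroDivisors ((pullback a b).presheaf.stalk (e t)) := by
    intro r hr hreg
    refine zero_divisors_of_isAssPoint ht (e.stalkMap t r) ?_ (mem_nonZeroDivisors_iff_right.mpr fun c hc => ?_)
    · rw [IsLocalRing.mem_maximalIdeal] at hr ⊢
      exact fun hu => hr (isUnit_of_map_unit (e.stalkMap t).hom r hu)
    · obtain ⟨c, rfl⟩ := hbij.2 c
      have : c * r = 0 := hbij.1 (by rw [map_mul, map_zero]; exact hc)
      rw [mem_nonZeroDivisors_iff_right.mp hreg c this, map_zero]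
  have := eq_of_specializes_of_zero_divisors (k := k) (X := Spec (X.residueField x))
    (Y := Spec (Y.residueField y)) (e t) hz (e w) (hw.map e.continuous)
  exact e.isEmbedding.injective this

instance isIso_residueFieldMap_fiberι (s : S) (z : g.fiber s) :
    IsIso ((g.fiberι s).residueFieldMap z) := by
  refine (ConcreteCategory.isIso_iff_bijective _).2 ⟨RingHom.injective _, fun w => ?_⟩
  obtain ⟨w, rfl⟩ := IsLocalRing.residue_surjective w
  obtain ⟨v, rfl⟩ := (g.fiberι s).stalkMap_surjective z w
  exact ⟨IsLocalRing.residue _ v, rfl⟩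

theorem isNoetherianRing_fiber_stalk [IsLocallyNoetherian Y] (s : S) (z : g.fiber s) :
    IsNoetherianRing ((g.fiber s).presheaf.stalk z) :=
  isNoetherianRing_of_surjective _ _ _ (Groth.Agent.S9501.result g s z).1

variable [IsLocallyNoetherian X] [IsLocallyNoetherian Y]
  (F : X.Modules) (G : Y.Modules) (hG : Coh.IsQCoh G) (hGfl : FlatMod.IsFlatOver g G)

include hG hGfl in
/-- Associated points of `F ⊗_S G`. -/
theorem mem_ass_prod_iff (z : ↑(pullback f g)) :
    z ∈ AssSch.Ass (CohB1.tensorMod ((Scheme.Modules.pullback (pullback.fst f g)).obj F)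
        ((Scheme.Modules.pullback (pullback.snd f g)).obj G)) ↔
      ∃ x ∈ AssSch.Ass F, ∃ y' ∈ AssSch.Ass ((Scheme.Modules.pullback (g.fiberι (f x))).obj G),
        ∃ t ∈ AssSch.Ass (Coh.structureModule (prodPts f g x (g.fiberι (f x) y'))),
          prodPtsι f g x (g.fiberι (f x) y') t = z := by
  haveI : G.IsQuasicoherent := hG
  rw [mem_ass_tensor_iff (pullback.fst f g) F _ z
    (Groth.FlatMorOne.isFlatOver_baseChange (IsPullback.of_hasPullback f g).flip G hGfl z)]
  have hsq : ∀ x : X, IsPullback
      (pullback.map (X.fromSpecResidueField x ≫ f) g f g (X.fromSpecResidueField x) (𝟙 Y) (𝟙 S)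
        (Category.comp_id _) (by simp))
      (pullback.fst (X.fromSpecResidueField x ≫ f) g) (pullback.fst f g) (X.fromSpecResidueField x) := by
    intro x
    refine IsPullback.of_right ?_ (pullback.lift_fst _ _ _) (IsPullback.of_hasPullback f g).flip
    rw [pullback.lift_snd, Category.comp_id]
    exact (IsPullback.of_hasPullback _ _).flip
  -- the fibre over an associated point of `F`
  have hW : ∀ (x : X) (w : ↑(pullback (X.fromSpecResidueField x ≫ f) g)),
      (pullback.map (X.fromSpecResidueField x ≫ f) g f g (X.fromSpecResidueField x) (𝟙 Y) (𝟙 S)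
          (Category.comp_id _) (by simp)) w ∈ MoreMor.relAss (pullback.fst f g)
            ((Scheme.Modules.pullback (pullback.snd f g)).obj G) ↔
        ∃ y' ∈ AssSch.Ass ((Scheme.Modules.pullback (g.fiberι (f x))).obj G),
          ∃ t ∈ AssSch.Ass (Coh.structureModule (prodPts f g x (g.fiberι (f x) y'))),
            pullback.map _ _ (X.fromSpecResidueField x ≫ f) g (𝟙 _)
              (Y.fromSpecResidueField (g.fiberι (f x) y')) (𝟙 S) (by simp) (by simp) t = w := by
    intro x w
    set i := pullback.map (X.fromSpecResidueField x ≫ f) g f g (X.fromSpecResidueField x) (𝟙 Y) (𝟙 S)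
      (Category.comp_id _) (by simp) with hi
    let sW := pullback.snd (X.fromSpecResidueField x ≫ f) g
    let c : pullback (X.fromSpecResidueField x ≫ f) g ⟶ g.fiber (f x) :=
      pullback.lift sW (pullback.fst _ _ ≫ Spec.map (f.residueFieldMap x)) (by
        rw [Category.assoc, Scheme.Hom.SpecMap_residueFieldMap_fromSpecResidueField]
        exact pullback.condition.symm)
    have hcι : c ≫ g.fiberι (f x) = sW := pullback.lift_fst _ _ _
    have hc : IsPullback (pullback.fst (X.fromSpecResidueField x ≫ f) g) c
        (Spec.map (f.residueFieldMap x)) (g.fiberToSpecResidueField (f x)) := by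
      refine IsPullback.of_bot ?_ (pullback.lift_snd _ _ _).symm
        (IsPullback.of_hasPullback g (S.fromSpecResidueField (f x))).flip
      show IsPullback _ (c ≫ g.fiberι (f x)) _ g
      rw [hcι, Scheme.Hom.SpecMap_residueFieldMap_fromSpecResidueField]
      exact IsPullback.of_hasPullback _ _
    haveI : Flat c := MorphismProperty.of_isPullback hc inferInstance
    haveI := isNoetherianRing_fiber_stalk g (f x) (c w)
    have hib : i ≫ pullback.snd f g = c ≫ g.fiberι (f x) := by
      rw [hcι, hi, pullback.lift_snd, Category.comp_id]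
    have hiso : AssSch.Ass ((Scheme.Modules.pullback i).obj ((Scheme.Modules.pullback (pullback.snd f g)).obj G)) =
        AssSch.Ass ((Scheme.Modules.pullback c).obj ((Scheme.Modules.pullback (g.fiberι (f x))).obj G)) :=
      ass_congr ((Scheme.Modules.pullbackComp i (pullback.snd f g)).app G ≪≫
        (Scheme.Modules.pullbackCongr hib).app G ≪≫
          ((Scheme.Modules.pullbackComp c (g.fiberι (f x))).app G).symm)
    refine (mem_relAss_iff_fibre (hsq x) _ w).trans ?_
    rw [hiso, mem_ass_pullback_iff]
    have hT : ∀ y', IsPullback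
        (pullback.map (X.fromSpecResidueField x ≫ f) (Y.fromSpecResidueField (g.fiberι (f x) y') ≫ g)
          (X.fromSpecResidueField x ≫ f) g (𝟙 _)
          (Y.fromSpecResidueField (g.fiberι (f x) y')) (𝟙 S) (by simp) (by simp))
        (pullback.snd _ _ ≫ inv (Spec.map ((g.fiberι (f x)).residueFieldMap y')))
        c ((g.fiber (f x)).fromSpecResidueField y') := by
      intro y'
      have h1 : IsPullback
          (pullback.map (X.fromSpecResidueField x ≫ f) (Y.fromSpecResidueField (g.fiberι (f x) y') ≫ g)
            (X.fromSpecResidueField x ≫ f) g (𝟙 _)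
            (Y.fromSpecResidueField (g.fiberι (f x) y')) (𝟙 S) (by simp) (by simp))
          (pullback.snd _ _) (c ≫ g.fiberι (f x)) (Y.fromSpecResidueField (g.fiberι (f x) y')) := by
        rw [hcι]
        refine IsPullback.of_right ?_ (pullback.lift_snd _ _ _) (IsPullback.of_hasPullback _ g)
        rw [pullback.lift_fst, Category.comp_id]
        exact IsPullback.of_hasPullback _ _
      have h2 := Scheme.Hom.SpecMap_residueFieldMap_fromSpecResidueField (g.fiberι (f x)) y'
      refine ⟨⟨?_⟩, ⟨PullbackCone.IsLimit.mk _ (fun s => h1.lift s.fst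
        (s.snd ≫ Spec.map ((g.fiberι (f x)).residueFieldMap y')) ?_) ?_ ?_ ?_⟩⟩
      · rw [← cancel_mono (g.fiberι (f x)), Category.assoc, h1.w, Category.assoc, Category.assoc,
          ← h2, IsIso.inv_hom_id_assoc]
      · rw [Category.assoc, h2, ← Category.assoc, s.condition, Category.assoc]
      · intro s
        exact h1.lift_fst _ _ _
      · intro s
        rw [← Category.assoc, h1.lift_snd, Category.assoc, IsIso.hom_inv_id, Category.comp_id]
      · intro s m hm1 hm2
        refine h1.hom_ext (hm1.trans (h1.lift_fst _ _ _).symm) ?_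
        rw [h1.lift_snd, ← hm2]
        simp
    constructor
    · rintro ⟨hy', hw⟩
      obtain ⟨t, ht, -⟩ := Scheme.exists_preimage_of_isPullback (hT (c w)) w (default : Spec _)
        (Scheme.fromSpecResidueField_apply _ _).symm
      refine ⟨c w, hy', t, ?_, ht⟩
      rw [← mem_relAss_structure_iff_fibre (hT (c w)), ht]
      exact hw
    · rintro ⟨y', hy', t, ht, rfl⟩
      refine ⟨?_, (mem_relAss_structure_iff_fibre (hT y') t).mpr ht⟩
      rw [← Scheme.Hom.comp_apply, (hT y').w, Scheme.Hom.comp_apply, Scheme.fromSpecResidueField_apply]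
      exact hy'
  have hι : ∀ (x : X) (y : Y), pullback.map _ _ (X.fromSpecResidueField x ≫ f) g (𝟙 _)
        (Y.fromSpecResidueField y) (𝟙 S) (by simp) (by simp) ≫
      pullback.map (X.fromSpecResidueField x ≫ f) g f g (X.fromSpecResidueField x) (𝟙 Y) (𝟙 S)
        (Category.comp_id _) (by simp) = prodPtsι f g x y := fun x y =>
    pullback.hom_ext (by simp) (by simp)
  constructor
  · rintro ⟨hx, hz⟩
    obtain ⟨w, hw, -⟩ := Scheme.exists_preimage_of_isPullback (hsq (pullback.fst f g z)) z (default : Spec _)
      (Scheme.fromSpecResidueField_apply _ _).symm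
    rw [← hw] at hz
    obtain ⟨y', hy', t, ht, htw⟩ := (hW _ w).mp hz
    refine ⟨_, hx, y', hy', t, ht, ?_⟩
    rw [← hι, Scheme.Hom.comp_apply, htw, hw]
  · rintro ⟨x, hx, y', hy', t, ht, rfl⟩
    refine ⟨by rwa [fst_prodPtsι], ?_⟩
    rw [← hι, Scheme.Hom.comp_apply]
    exact (hW x _).mpr ⟨y', hy', t, ht, rfl⟩

omit [IsLocallyNoetherian X] [IsLocallyNoetherian Y] in
include hGfl in
/-- Associated points of the fibre over an associated point of the base. -/
theorem mem_ass_iff_fibre [IsLocallyNoetherian S] {s : S} (hs : s ∈ AssSch.Ass (Coh.structureModule S))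
    (y' : g.fiber s) :
    g.fiberι s y' ∈ AssSch.Ass G ↔ y' ∈ AssSch.Ass ((Scheme.Modules.pullback (g.fiberι s)).obj G) := by
  have h : g (g.fiberι s y') = s := (g.range_fiberι s).le ⟨y', rfl⟩
  rw [mem_ass_iff_relAss g G _ (hGfl _), mem_relAss_iff_fiber, h]
  exact and_iff_right hs

end Groth.FBaseGeom
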