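import Groth.Agent.FBaseGeom.AssProdTensor
import Groth.Agent.FBaseGeom.LengthBC
import Groth.Agent.DescentBase.GeomReduced
import Groth.Agent.Calg5.GeomTest
import Groth.Agent.SchemeMorphisms.Ass
import Groth.Agent.S4671
import Mathlib.FieldTheory.PurelyInseparable.PerfectClosure
import Mathlib.AlgebraicGeometry.Morphisms.Finite

/-!
Reduced modules under base change and external tensor products over a field.
-/

set_option autoImplicit false
set_option linter.style.haveILetI false
set_option backward.isDefEq.respectTransparency false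
set_option maxHeartbeats 800000

universe u

open CategoryTheory CategoryTheory.Limits AlgebraicGeometry TensorProduct IsLocalRing

namespace Groth.FBaseGeom

section Length

variable {X Y : Scheme.{u}} {f : X ⟶ Y}

theorem length_quot_eq_fibre {T : Scheme.{u}} {i : T ⟶ X} {y : Y} {b : T ⟶ Spec (Y.residueField y)}
    (H : IsPullback i b f (Y.fromSpecResidueField y)) (F : X.Modules) (t : T) :
    Module.length (X.presheaf.stalk (i t)) (F.presheaf.stalk (i t) ⧸
      ((maximalIdeal (Y.presheaf.stalk (f (i t)))).map (f.stalkMap (i t)).hom •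
        (⊤ : Submodule (X.presheaf.stalk (i t)) (F.presheaf.stalk (i t))))) =
      Module.length (T.presheaf.stalk t) (((Scheme.Modules.pullback i).obj F).presheaf.stalk t) := by
  letI := Groth.QCohMod.stalkAlg i t
  obtain ⟨hπ, hker⟩ := stalkMap_of_fibre H t
  let B := X.presheaf.stalk (i t)
  let K := T.presheaf.stalk t
  let e₀ : (B ⧸ RingHom.ker (algebraMap B K)) ≃ₐ[B] K :=
    Ideal.quotientKerAlgEquivOfSurjective (f := Algebra.ofId B K) hπ
  let Q : Submodule B (F.presheaf.stalk (i t)) :=
    (maximalIdeal (Y.presheaf.stalk (f (i t)))).map (f.stalkMap (i t)).hom • ⊤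
  let e : (F.presheaf.stalk (i t) ⧸ Q) ≃ₗ[B] K ⊗[B] F.presheaf.stalk (i t) :=
    (Submodule.quotEquivOfEq _ _ (congrArg (· • (⊤ : Submodule B (F.presheaf.stalk (i t)))) hker.symm)).trans
      ((TensorProduct.quotTensorEquivQuotSMul _ _).symm.trans
        (TensorProduct.congr e₀.toLinearEquiv (LinearEquiv.refl _ _)))
  rw [e.length_eq, Module.length_eq_of_surjective (S := B) (R := K) hπ]
  exact (Groth.QCohMod.pullStalkEquiv i F t).length_eq

/-- Length of `f^*E ⊗ F` at a point over a point where `E` has length one. -/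
theorem length_tensor_of_length_one (f : X ⟶ Y) (E : Y.Modules) (F : X.Modules) (x : X)
    (h1 : Module.length (Y.presheaf.stalk (f x)) (E.presheaf.stalk (f x)) = 1) :
    Module.length (X.presheaf.stalk x)
        ((CohB1.tensorMod ((Scheme.Modules.pullback f).obj E) F).presheaf.stalk x) =
      Module.length (X.presheaf.stalk x) (F.presheaf.stalk x ⧸
        ((maximalIdeal (Y.presheaf.stalk (f x))).map (f.stalkMap x).hom •
          (⊤ : Submodule (X.presheaf.stalk x) (F.presheaf.stalk x)))) := by
  letI := Groth.QCohMod.stalkAlg f x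
  letI := FlatMod.moduleStalkOver f F x
  haveI : IsScalarTower (Y.presheaf.stalk (f x)) (X.presheaf.stalk x) (F.presheaf.stalk x) :=
    IsScalarTower.of_algebraMap_smul fun _ _ => rfl
  haveI : IsSimpleModule (Y.presheaf.stalk (f x)) (E.presheaf.stalk (f x)) := Module.length_eq_one_iff.mp h1
  obtain ⟨m, hm, ⟨e⟩⟩ := isSimpleModule_iff_quot_maximal.mp ‹IsSimpleModule (Y.presheaf.stalk (f x)) (E.presheaf.stalk (f x))›
  obtain rfl := IsLocalRing.eq_maximalIdeal hm
  rw [((Groth.QCohMod.stalkTensorEquiv _ F x).symm.trans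
    ((TensorProduct.comm _ _ _).trans
      ((TensorProduct.congr (LinearEquiv.refl _ _) (Groth.QCohMod.pullStalkEquiv f E x).symm).trans
        ((AlgebraTensorModule.cancelBaseChange _ _ _ _ _).trans
          ((AlgebraTensorModule.congr (LinearEquiv.refl _ _) e).trans
            (Groth.Calg1.nonempty_tensorQuotientEquiv (S := X.presheaf.stalk x)
              (N := F.presheaf.stalk x) (maximalIdeal (Y.presheaf.stalk (f x)))).some))))).length_eq]
  rfl

/-- Length of a flat inverse image. -/
theorem length_pullback_eq_mul {T : Scheme.{u}} {i : T ⟶ X} {y : Y} {b : T ⟶ Spec (Y.residueField y)}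
    (H : IsPullback i b f (Y.fromSpecResidueField y)) [Flat f] (E : Y.Modules) (t : T) :
    Module.length (X.presheaf.stalk (i t)) (((Scheme.Modules.pullback f).obj E).presheaf.stalk (i t)) =
      Module.length (Y.presheaf.stalk (f (i t))) (E.presheaf.stalk (f (i t))) *
        Module.length (T.presheaf.stalk t) (T.presheaf.stalk t) := by
  letI := Groth.QCohMod.stalkAlg f (i t)
  haveI : Module.Flat (Y.presheaf.stalk (f (i t))) (X.presheaf.stalk (i t)) := Flat.stalkMap f (i t)
  haveI : IsLocalHom (algebraMap (Y.presheaf.stalk (f (i t))) (X.presheaf.stalk (i t))) :=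
    inferInstanceAs (IsLocalHom (f.stalkMap (i t)).hom)
  rw [← (Groth.QCohMod.pullStalkEquiv f E (i t)).length_eq, IsLocalRing.length_baseChange]
  congr 1
  letI := Groth.QCohMod.stalkAlg i t
  obtain ⟨hπ, hker⟩ := stalkMap_of_fibre H t
  rw [← Module.length_eq_of_surjective (S := X.presheaf.stalk (i t)) (R := T.presheaf.stalk t)
    (M := T.presheaf.stalk t) hπ]
  exact ((Submodule.quotEquivOfEq _ _ hker.symm).trans
    (Ideal.quotientKerAlgEquivOfSurjective (f := Algebra.ofId (X.presheaf.stalk (i t)) (T.presheaf.stalk t))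
      hπ).toLinearEquiv).length_eq

theorem length_congr {M M' : X.Modules} (e : M ≅ M') (x : X) :
    Module.length (X.presheaf.stalk x) (M.presheaf.stalk x) =
      Module.length (X.presheaf.stalk x) (M'.presheaf.stalk x) :=
  ({ ((TopCat.Presheaf.stalkFunctor AddCommGrpCat.{u} x).mapIso
        ((Scheme.Modules.toPresheaf X).mapIso e)).addCommGroupIsoToAddEquiv with
     map_smul' := fun r t => Groth.OmegaSheaf.stalk_map_smul e.hom x r t } :
    M.presheaf.stalk x ≃ₗ[X.presheaf.stalk x] M'.presheaf.stalk x).length_eq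

theorem isReducedMod_congr {M M' : X.Modules} (e : M ≅ M') (h : AssSch.IsReducedMod M) :
    AssSch.IsReducedMod M' := by
  refine ⟨fun a ha b hb => ?_, fun a ha => ?_⟩
  · rw [← ass_congr e] at ha hb
    exact h.1 a ha b hb
  · rw [← ass_congr e] at ha
    rw [← length_congr e]
    exact h.2 a ha

end Length

section Field

theorem eq_zero_of_isNilpotent_of_simple {R : Type u} [CommRing R] [IsSimpleModule R R] (a : R)
    (ha : IsNilpotent a) : a = 0 := by
  rcases IsSimpleOrder.eq_bot_or_eq_top (Ideal.span {a}) with h | h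
  · exact Ideal.span_singleton_eq_bot.mp h
  · haveI : Nontrivial R := IsSimpleModule.nontrivial R R
    exact absurd (Ideal.span_singleton_eq_top.mp h) ha.not_isUnit


variable {k : Type u} [Field k] {X : Scheme.{u}}

theorem mem_ass_of_isField {Z : Scheme.{u}} {z : Z} (h : IsField (Z.presheaf.stalk z)) :
    z ∈ AssSch.Ass (Coh.structureModule Z) := by
  rw [ass_iff_of_linearEquiv (Groth.RefRank.oneEquiv z).symm,
    IsLocalRing.isField_iff_maximalIdeal_eq.mp h]
  letI := h.toField
  refine ⟨Ideal.isPrime_bot, 1, ?_⟩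
  rw [show (⊥ : Submodule (Z.presheaf.stalk z) (Z.presheaf.stalk z)).colon {1} = ⊥ by
    ext r; simp [Submodule.mem_colon_singleton]]
  exact (Ideal.isPrime_bot.radical).symm

theorem mem_ass_specField (x : Spec (CommRingCat.of k)) :
    x ∈ AssSch.Ass (Coh.structureModule (Spec (CommRingCat.of k))) :=
  mem_ass_of_isField (isField_stalk_of_maximal fun w _ => Subsingleton.elim w x)

theorem isFlatOver_specField (f : X ⟶ Spec (CommRingCat.of k)) (M : X.Modules) :
    FlatMod.IsFlatOver f M := fun x => by
  letI := (isField_stalk_of_maximal (z := f x) fun w _ => Subsingleton.elim w (f x)).toField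
  letI := FlatMod.moduleStalkOver f M x
  exact inferInstanceAs (Module.Flat ((Spec (CommRingCat.of k)).presheaf.stalk (f x)) (M.presheaf.stalk x))

/-- `Spec κ(x) ×_k S`. -/
noncomputable abbrev fibPt (f : X ⟶ Spec (CommRingCat.of k)) {S : Scheme.{u}} (g : S ⟶ Spec (CommRingCat.of k))
    (x : X) : Scheme.{u} := pullback (X.fromSpecResidueField x ≫ f) g

/-- Its map to `X ×_k S`. -/
noncomputable abbrev fibPtι (f : X ⟶ Spec (CommRingCat.of k)) {S : Scheme.{u}} (g : S ⟶ Spec (CommRingCat.of k))
    (x : X) : fibPt f g x ⟶ pullback f g :=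
  pullback.map _ _ f g (X.fromSpecResidueField x) (𝟙 S) (𝟙 _) (Category.comp_id _) (by simp)

variable (f : X ⟶ Spec (CommRingCat.of k)) {S : Scheme.{u}} (g : S ⟶ Spec (CommRingCat.of k))

theorem isPullback_fibPt (x : X) :
    IsPullback (fibPtι f g x) (pullback.fst _ g) (pullback.fst f g) (X.fromSpecResidueField x) := by
  refine IsPullback.of_right ?_ (pullback.lift_fst _ _ _) (IsPullback.of_hasPullback f g).flip
  rw [pullback.lift_snd, Category.comp_id]
  exact (IsPullback.of_hasPullback _ _).flip

theorem fst_fibPtι (x : X) (w : fibPt f g x) : pullback.fst f g (fibPtι f g x w) = x := by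
  rw [← Scheme.Hom.comp_apply, pullback.lift_fst, Scheme.Hom.comp_apply, Scheme.fromSpecResidueField_apply]

theorem exists_fibPt (z : ↑(pullback f g)) : ∃ w : fibPt f g (pullback.fst f g z), fibPtι f g _ w = z := by
  obtain ⟨w, hw, -⟩ := Scheme.exists_preimage_of_isPullback (isPullback_fibPt f g (pullback.fst f g z)) z
    (default : Spec _) (Scheme.fromSpecResidueField_apply _ _).symm
  exact ⟨w, hw⟩

theorem noEmbedded_fibPt [IsIntegral S] (x : X) (t w : fibPt f g x)
    (ht : t ∈ AssSch.Ass (Coh.structureModule (fibPt f g x))) (hw : w ⤳ t) : w = t := by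
  letI : (Spec (X.residueField x)).Over (Spec (CommRingCat.of k)) := ⟨X.fromSpecResidueField x ≫ f⟩
  letI : S.Over (Spec (CommRingCat.of k)) := ⟨g⟩
  exact eq_of_specializes_of_zero_divisors (k := k) (X := Spec (X.residueField x)) (Y := S) t
    (zero_divisors_of_isAssPoint ht) w hw

theorem isReduced_fibPt_of_geom (x : X) [AlgebraicGeometry.IsReduced S]
    (h : GeometricallyReduced (X.fromSpecResidueField x ≫ f)) :
    AlgebraicGeometry.IsReduced (fibPt f g x) :=
  Groth.DescentBase.isReduced_pullback_of_geometricallyReduced _ g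

/-- Geometric reducedness of a point is tested on finite purely inseparable extensions. -/
theorem geometricallyReduced_pt (x : X)
    (h : ∀ (k' : Type u) [Field k'] [Algebra k k'] [FiniteDimensional k k'] [IsPurelyInseparable k k'],
      AlgebraicGeometry.IsReduced (fibPt f (Spec.map (CommRingCat.ofHom (algebraMap k k'))) x)) :
    GeometricallyReduced (X.fromSpecResidueField x ≫ f) := by
  obtain ⟨φ, hφ⟩ := Spec.map_surjective (X.fromSpecResidueField x ≫ f)
  let L := X.residueField x
  letI : Algebra k L := φ.hom.toAlgebra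
  rw [← hφ]
  have hred : ∀ (k' : Type u) [Field k'] [Algebra k k'] [FiniteDimensional k k'] [IsPurelyInseparable k k'],
      _root_.IsReduced (k' ⊗[k] L) := by
    intro k' _ _ _ _
    have h' := h k'
    simp only [fibPt, ← hφ] at h'
    haveI : AlgebraicGeometry.IsReduced (pullback (Spec.map (CommRingCat.ofHom (algebraMap k L)))
        (Spec.map (CommRingCat.ofHom (algebraMap k k')))) := h'
    haveI : _root_.IsReduced (L ⊗[k] k') := (affine_isReduced_iff (CommRingCat.of _)).mp
      (isReduced_of_isOpenImmersion (pullbackSpecIso k L k').inv)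
    exact isReduced_of_injective (Algebra.TensorProduct.comm k k' L) (AlgEquiv.injective _)
  let Ω := AlgebraicClosure k
  let P := perfectClosure k Ω
  haveI : _root_.IsReduced (P ⊗[k] L) := Groth.Calg5.isReduced_tensor_of_finite fun E hE => by
    haveI := hE
    haveI : IsPurelyInseparable k E := IsPurelyInseparable.tower_bot k E P
    exact hred E
  haveI : Algebra.IsGeometricallyReduced k L :=
    Groth.VarietyBC.isGeometricallyReduced_of_perfect_extension P L
  exact Groth.DescentBase.geometricallyReduced_spec (k := k) (A := L)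

theorem flat_fst : Flat (pullback.fst f g) := MorphismProperty.pullback_fst _ _ inferInstance

theorem mem_ass_pullback_fibPt_iff [IsLocallyNoetherian X] (F : X.Modules) (x : X) (w : fibPt f g x) :
    fibPtι f g x w ∈ AssSch.Ass ((Scheme.Modules.pullback (pullback.fst f g)).obj F) ↔
      x ∈ AssSch.Ass F ∧ w ∈ AssSch.Ass (Coh.structureModule (fibPt f g x)) := by
  haveI := flat_fst f g
  rw [mem_ass_pullback_iff, mem_relAss_structure_iff_fibre (isPullback_fibPt f g x), fst_fibPtι]

theorem length_pullback_fibPt (F : X.Modules) (x : X) (w : fibPt f g x) :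
    Module.length ((pullback f g).presheaf.stalk (fibPtι f g x w))
        (((Scheme.Modules.pullback (pullback.fst f g)).obj F).presheaf.stalk (fibPtι f g x w)) =
      Module.length (X.presheaf.stalk x) (F.presheaf.stalk x) *
        Module.length ((fibPt f g x).presheaf.stalk w) ((fibPt f g x).presheaf.stalk w) := by
  haveI := flat_fst f g
  have key : ∀ x', x' = x → Module.length (X.presheaf.stalk x') (F.presheaf.stalk x') =
      Module.length (X.presheaf.stalk x) (F.presheaf.stalk x) := by rintro _ rfl; rfl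
  rw [length_pullback_eq_mul (isPullback_fibPt f g x) F w, key _ (fst_fibPtι f g x w)]

theorem isReducedMod_pullback_of_geom [IsLocallyNoetherian X] [IsIntegral S]
    (F : X.Modules) (hF : AssSch.IsReducedMod F)
    (hgeom : ∀ x ∈ AssSch.Ass F, GeometricallyReduced (X.fromSpecResidueField x ≫ f)) :
    AssSch.IsReducedMod ((Scheme.Modules.pullback (pullback.fst f g)).obj F) := by
  refine ⟨fun z hz z₂ hz₂ h => ?_, fun z hz => ?_⟩
  · obtain ⟨w, hw⟩ := exists_fibPt f g z
    rw [← hw, mem_ass_pullback_fibPt_iff] at hz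
    obtain ⟨w₂, hw₂⟩ := exists_fibPt f g z₂
    rw [← hw₂, mem_ass_pullback_fibPt_iff] at hz₂
    have hx := hF.1 _ hz.1 _ hz₂.1 (h.map (pullback.fst f g).continuous)
    obtain ⟨w', hw'⟩ : ∃ w', fibPtι f g (pullback.fst f g z) w' = z₂ := by rw [hx]; exact ⟨w₂, hw₂⟩
    haveI : IsPreimmersion (fibPtι f g (pullback.fst f g z)) :=
      MorphismProperty.of_isPullback (P := @IsPreimmersion) (isPullback_fibPt f g _).flip inferInstance
    rw [← hw, ← hw'] at h ⊢
    rw [noEmbedded_fibPt f g _ w w' hz.2
      ((fibPtι f g (pullback.fst f g z)).isEmbedding.isInducing.specializes_iff.mp h)]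
  · obtain ⟨w, hw⟩ := exists_fibPt f g z
    rw [← hw] at hz ⊢
    rw [mem_ass_pullback_fibPt_iff] at hz
    haveI := isReduced_fibPt_of_geom f g _ (hgeom _ hz.1)
    rw [length_pullback_fibPt, hF.2 _ hz.1, one_mul, length_stalk_eq_one]
    exact fun v hv => noEmbedded_fibPt f g _ w v hz.2 hv

theorem geometricallyReduced_of_isReducedMod [IsLocallyNoetherian X] (F : X.Modules) {x : X}
    (hx : x ∈ AssSch.Ass F)
    (h : ∀ (k' : Type u) [Field k'] [Algebra k k'] [FiniteDimensional k k'] [IsPurelyInseparable k k'],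
      AssSch.IsReducedMod ((Scheme.Modules.pullback (FBase.bcπ f k')).obj F)) :
    GeometricallyReduced (X.fromSpecResidueField x ≫ f) := by
  refine geometricallyReduced_pt f x fun k' _ _ _ _ => ?_
  let σ := Spec.map (CommRingCat.ofHom (algebraMap k k'))
  haveI : IsFinite σ := (IsFinite.SpecMap_iff _).mpr (RingHom.finite_algebraMap.mpr inferInstance)
  haveI : IsFinite (pullback.fst (X.fromSpecResidueField x ≫ f) σ) :=
    MorphismProperty.pullback_fst _ _ inferInstance
  haveI : IsLocallyNoetherian (fibPt f σ x) :=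
    LocallyOfFiniteType.isLocallyNoetherian (pullback.fst (X.fromSpecResidueField x ≫ f) σ)
  have hmax : ∀ (w v : fibPt f σ x), v ⤳ w → v = w := fun w v hv =>
    Groth.SchemeMorphisms.eq_of_specializes_of_isIntegralHom (pullback.fst _ σ) hv (Subsingleton.elim _ _)
  refine @isReduced_of_isReduced_stalk _ fun w => ?_
  have hw : w ∈ AssSch.Ass (Coh.structureModule (fibPt f σ x)) :=
    Groth.SchemeMorphisms.mem_ass_iff_weak.mpr (Groth.Divisors.weakAss_structure_of_maximal (hmax w))
  have hl : Module.length ((pullback f σ).presheaf.stalk (fibPtι f σ x w))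
      (((Scheme.Modules.pullback (pullback.fst f σ)).obj F).presheaf.stalk (fibPtι f σ x w)) = 1 :=
    (h k').2 _ ((mem_ass_pullback_fibPt_iff f σ F x w).mpr ⟨hx, hw⟩)
  rw [length_pullback_fibPt] at hl
  haveI := Module.length_eq_one_iff.mp (mul_eq_one.mp hl).2
  exact ⟨fun a ha => eq_zero_of_isNilpotent_of_simple a ha⟩

theorem isReducedMod_of_bc_self [IsLocallyNoetherian X] (F : X.Modules)
    (h : AssSch.IsReducedMod ((Scheme.Modules.pullback (FBase.bcπ f k)).obj F)) :
    AssSch.IsReducedMod F := by
  let σ := Spec.map (CommRingCat.ofHom (algebraMap k k))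
  haveI : IsIso σ := by
    rw [show σ = 𝟙 _ from (congrArg Spec.map (rfl : CommRingCat.ofHom (RingHom.id k) = 𝟙 _)).trans (Spec.map_id _)]
    infer_instance
  have hfield : ∀ (x : X) (w : fibPt f σ x), IsField ((fibPt f σ x).presheaf.stalk w) := fun x w => by
    let e := pullback.fst (X.fromSpecResidueField x ≫ f) σ
    exact ((asIso (e.stalkMap w)).commRingCatIsoToRingEquiv.symm.toMulEquiv.isField
      (isField_stalk_of_maximal fun v _ => Subsingleton.elim v _))
  have hmem : ∀ x ∈ AssSch.Ass F, ∀ z, pullback.fst f σ z = x →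
      z ∈ AssSch.Ass ((Scheme.Modules.pullback (pullback.fst f σ)).obj F) ∧
      Module.length ((pullback f σ).presheaf.stalk z)
          (((Scheme.Modules.pullback (pullback.fst f σ)).obj F).presheaf.stalk z) =
        Module.length (X.presheaf.stalk x) (F.presheaf.stalk x) := by
    rintro _ hx z rfl
    obtain ⟨w, hw⟩ := exists_fibPt f σ z
    have h1 := (mem_ass_pullback_fibPt_iff f σ F _ w).mpr ⟨hx, mem_ass_of_isField (hfield _ w)⟩
    have h2 := length_pullback_fibPt f σ F _ w
    rw [hw] at h1 h2
    refine ⟨h1, h2.trans ?_⟩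
    letI := (hfield _ w).toField
    haveI : IsSimpleModule ((fibPt f σ (pullback.fst f σ z)).presheaf.stalk w)
        ((fibPt f σ (pullback.fst f σ z)).presheaf.stalk w) := (isSimpleModule_iff _ _).2 inferInstance
    rw [Module.length_eq_one (R := (fibPt f σ (pullback.fst f σ z)).presheaf.stalk w)
      (M := (fibPt f σ (pullback.fst f σ z)).presheaf.stalk w), mul_one]
  refine ⟨fun a ha b hb hab => ?_, fun a ha => ?_⟩
  · obtain ⟨z, hz⟩ := (pullback.fst f σ).surjective a
    obtain ⟨z₂, hz₂⟩ := (pullback.fst f σ).surjective b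
    have hab' : z₂ ⤳ z := (pullback.fst f σ).isEmbedding.isInducing.specializes_iff.mp (by rw [hz, hz₂]; exact hab)
    rw [← hz, ← hz₂, h.1 z (hmem a ha z hz).1 z₂ (hmem b hb z₂ hz₂).1 hab']
  · obtain ⟨z, hz⟩ := (pullback.fst f σ).surjective a
    obtain ⟨h1, h2⟩ := hmem a ha z hz
    exact h2.symm.trans (h.2 z h1)

theorem length_quot_fibPtι_eq_one {Y : Scheme.{u}} [IsLocallyNoetherian X] [IsLocallyNoetherian Y]
    (g : Y ⟶ Spec (CommRingCat.of k)) [IsLocallyNoetherian (pullback f g)] (G : Y.Modules)
    [G.IsQuasicoherent] (hG : AssSch.IsReducedMod G) (x : X) (w : fibPt f g x)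
    (hgx : GeometricallyReduced (X.fromSpecResidueField x ≫ f))
    (hz : fibPtι f g x w ∈ MoreMor.relAss (pullback.fst f g) ((Scheme.Modules.pullback (pullback.snd f g)).obj G)) :
    Module.length ((pullback f g).presheaf.stalk (fibPtι f g x w))
      (((Scheme.Modules.pullback (pullback.snd f g)).obj G).presheaf.stalk (fibPtι f g x w) ⧸
        ((maximalIdeal (X.presheaf.stalk (pullback.fst f g (fibPtι f g x w)))).map
          ((pullback.fst f g).stalkMap (fibPtι f g x w)).hom •
          (⊤ : Submodule ((pullback f g).presheaf.stalk (fibPtι f g x w))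
            (((Scheme.Modules.pullback (pullback.snd f g)).obj G).presheaf.stalk (fibPtι f g x w))))) = 1 := by
  let c : fibPt f g x ⟶ Y := pullback.snd _ _
  haveI : Flat c := MorphismProperty.pullback_snd _ _ inferInstance
  have hib : fibPtι f g x ≫ pullback.snd f g = c := by rw [pullback.lift_snd, Category.comp_id]
  let e : (Scheme.Modules.pullback (fibPtι f g x)).obj ((Scheme.Modules.pullback (pullback.snd f g)).obj G) ≅
      (Scheme.Modules.pullback c).obj G :=
    (Scheme.Modules.pullbackComp _ _).app G ≪≫ (Scheme.Modules.pullbackCongr hib).app G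
  rw [length_quot_eq_fibre (isPullback_fibPt f g x), length_congr e w]
  have hrel := (mem_relAss_iff_fibre (isPullback_fibPt f g x) _ w).mp hz
  rw [ass_congr e, mem_ass_pullback_iff c G w] at hrel
  have hy := hrel.1
  have hsq : IsPullback
      (pullback.map (X.fromSpecResidueField x ≫ f) (Y.fromSpecResidueField (c w) ≫ g)
        (X.fromSpecResidueField x ≫ f) g (𝟙 _) (Y.fromSpecResidueField (c w)) (𝟙 _) (by simp) (by simp))
      (pullback.snd _ _) c (Y.fromSpecResidueField (c w)) := by
    refine IsPullback.of_right ?_ (pullback.lift_snd _ _ _) (IsPullback.of_hasPullback _ g)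
    rw [pullback.lift_fst, Category.comp_id]
    exact IsPullback.of_hasPullback _ _
  obtain ⟨t, ht, -⟩ := Scheme.exists_preimage_of_isPullback hsq w (default : Spec _)
    (Scheme.fromSpecResidueField_apply _ _).symm
  generalize hyw : c w = y at hsq t hy hrel
  subst ht
  have htA : t ∈ AssSch.Ass (Coh.structureModule (prodPts f g x y)) :=
    (mem_relAss_structure_iff_fibre hsq t).mp hrel.2
  rw [length_pullback_eq_mul hsq, hyw, hG.2 y hy, one_mul]
  haveI : AlgebraicGeometry.IsReduced (prodPts f g x y) :=
    Groth.DescentBase.isReduced_pullback_of_geometricallyReduced _ _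
  exact length_stalk_eq_one fun v hv => prodPts_eq_of_specializes f g x y t v htA hv

theorem isReducedMod_externalTensor {Y : Scheme.{u}} [IsLocallyNoetherian X] [IsLocallyNoetherian Y]
    (g : Y ⟶ Spec (CommRingCat.of k)) [IsLocallyNoetherian (pullback f g)]
    (F : X.Modules) (hFq : Coh.IsQCoh F) (G : Y.Modules) (hGq : Coh.IsQCoh G)
    (hF : AssSch.IsReducedMod F) (hG : AssSch.IsReducedMod G)
    (hgeom : ∀ x ∈ AssSch.Ass F, GeometricallyReduced (X.fromSpecResidueField x ≫ f)) :
    AssSch.IsReducedMod (CohB1.tensorMod ((Scheme.Modules.pullback (pullback.fst f g)).obj F)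
      ((Scheme.Modules.pullback (pullback.snd f g)).obj G)) := by
  refine ⟨Groth.Agent.S4671.result f g F hFq G hGq (isFlatOver_specField g G)
    (fun x _ => mem_ass_specField (f x)) hF.1 hG.1, fun z hz => ?_⟩
  haveI := flat_fst f g
  haveI : G.IsQuasicoherent := hGq
  rw [mem_ass_tensor_iff (pullback.fst f g) F _ z (Groth.FlatMorOne.isFlatOver_baseChange
    (IsPullback.of_hasPullback f g).flip G (isFlatOver_specField g G) z)] at hz
  rw [length_tensor_of_length_one (pullback.fst f g) F _ z (hF.2 _ hz.1)]
  obtain ⟨w, hw⟩ := exists_fibPt f g z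
  exact hw ▸ length_quot_fibPtι_eq_one f g G hG _ w (hgeom _ hz.1) (hw.symm ▸ hz.2)

end Field

end Groth.FBaseGeom
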