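import Groth.Agent.Flatmor4.FibreAss
import Groth.Agent.QCohMod.TensorStalk
import Groth.Agent.RefRank.Stalk
import Groth.Agent.FlatMorOne.GoodLocus
import Groth.Agent.S9501
import Groth.Prelude.Def_FDesc

/-!
Associated points of `f^*E ⊗ F` for `F` flat over the base.
-/

set_option autoImplicit false
set_option linter.style.haveILetI false
set_option backward.isDefEq.respectTransparency false

universe u

open CategoryTheory CategoryTheory.Limits AlgebraicGeometry TensorProduct IsLocalRing

namespace Groth.FBaseGeom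

section Algebra

variable {R S N : Type u} [CommRing R] [CommRing S] [Algebra R S] [AddCommGroup N] [Module S N]
  [Module R N] [IsScalarTower R S N] [Module.Flat R N]

theorem comap_eq_of_mem_ass_quotient (p : Ideal R) [p.IsPrime] (Q : Ideal S)
    (h : Q ∈ associatedPrimes S (N ⧸ p.map (algebraMap R S) • (⊤ : Submodule S N))) :
    Q.comap (algebraMap R S) = p := by
  obtain ⟨e⟩ := Groth.Calg1.nonempty_tensorQuotientEquiv (R := R) (S := S) (N := N) p
  obtain ⟨hQ, z, hz⟩ := h
  refine le_antisymm (fun a ha => ?_) (fun a ha => ?_)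
  · by_contra hap
    rw [Ideal.mem_comap, hz] at ha
    obtain ⟨n, hn⟩ := ha
    rw [Submodule.mem_colon_singleton, Submodule.mem_bot, ← map_pow] at hn
    have hreg : Function.Injective (LinearMap.lsmul R (R ⧸ p) (a ^ n)) := by
      intro x y hxy
      obtain ⟨x, rfl⟩ := Ideal.Quotient.mk_surjective x
      obtain ⟨y, rfl⟩ := Ideal.Quotient.mk_surjective y
      rw [Ideal.Quotient.eq]
      have : a ^ n * (x - y) ∈ p := by
        rw [mul_sub, ← Ideal.Quotient.eq]
        exact hxy
      exact ((‹p.IsPrime›).mem_or_mem this).resolve_left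
        fun h' => hap ((‹p.IsPrime›).mem_of_pow_mem n h')
    have hw : ∀ w : N ⊗[R] (R ⧸ p), AlgebraTensorModule.lTensor S N (LinearMap.lsmul R (R ⧸ p) (a ^ n)) w =
        algebraMap R S (a ^ n) • w := by
      intro w
      rw [algebraMap_smul]
      induction w using TensorProduct.induction_on with
      | zero => simp
      | tmul t r => simp
      | add u v hu hv => rw [map_add, smul_add, hu, hv]
    have hz0 : z = 0 := by
      refine e.symm.injective (Groth.Calg1.lTensor_injective_of_injective (S := S) (N := N) _ hreg ?_)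
      rw [hw, ← map_smul, hn, map_zero, map_zero]
    refine hQ.ne_top ?_
    rw [hz, Ideal.radical_eq_top, Ideal.eq_top_iff_one, Submodule.mem_colon_singleton, hz0, smul_zero]
    exact zero_mem _
  · rw [Ideal.mem_comap, hz]
    refine Ideal.le_radical ?_
    obtain ⟨z, rfl⟩ := Submodule.Quotient.mk_surjective _ z
    rw [Submodule.mem_colon_singleton, Submodule.mem_bot, ← Submodule.Quotient.mk_smul,
      Submodule.Quotient.mk_eq_zero]
    exact Submodule.smul_mem_smul (Ideal.mem_map_of_mem _ ha) trivial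

variable [IsNoetherianRing R] [IsLocalRing R] [IsLocalRing S] [IsLocalHom (algebraMap R S)]

theorem maximalIdeal_mem_ass_tensor_iff (M : Type u) [AddCommGroup M] [Module R M] :
    maximalIdeal S ∈ associatedPrimes S (N ⊗[R] M) ↔
      maximalIdeal R ∈ associatedPrimes R M ∧
        maximalIdeal S ∈ associatedPrimes S
          (N ⧸ (maximalIdeal R).map (algebraMap R S) • (⊤ : Submodule S N)) := by
  rw [Groth.Calg1.associatedPrimes_tensor, Set.mem_iUnion₂]
  refine ⟨?_, fun h => ⟨_, h.1, h.2⟩⟩
  rintro ⟨p, hp, hq⟩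
  haveI : p.IsPrime := hp.1
  obtain rfl : p = maximalIdeal R :=
    (comap_eq_of_mem_ass_quotient p _ hq).symm.trans (IsLocalRing.maximalIdeal_comap _)
  exact ⟨hp, hq⟩

end Algebra

section Scheme

variable {X Y : Scheme.{u}} (f : X ⟶ Y)

theorem ass_iff_of_linearEquiv {M : X.Modules} {x : X} {N : Type u} [AddCommGroup N]
    [Module (X.presheaf.stalk x) N] (e : M.presheaf.stalk x ≃ₗ[X.presheaf.stalk x] N) :
    x ∈ AssSch.Ass M ↔ maximalIdeal (X.presheaf.stalk x) ∈ associatedPrimes (X.presheaf.stalk x) N := by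
  rw [← LinearEquiv.AssociatedPrimes.eq e]
  exact Iff.rfl

theorem ass_congr {M M' : X.Modules} (e : M ≅ M') : AssSch.Ass M = AssSch.Ass M' := by
  ext x
  exact ass_iff_of_linearEquiv
    ({ ((TopCat.Presheaf.stalkFunctor AddCommGrpCat.{u} x).mapIso
          ((Scheme.Modules.toPresheaf X).mapIso e)).addCommGroupIsoToAddEquiv with
       map_smul' := fun r t => Groth.OmegaSheaf.stalk_map_smul e.hom x r t } :
      M.presheaf.stalk x ≃ₗ[X.presheaf.stalk x] M'.presheaf.stalk x)

/-- Associated points of `f^*E ⊗ F`. -/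
theorem mem_ass_tensor_iff (E : Y.Modules) (F : X.Modules) (x : X)
    [IsNoetherianRing (Y.presheaf.stalk (f x))] (hfl : FlatMod.IsFlatOverAt f F x) :
    x ∈ AssSch.Ass (CohB1.tensorMod ((Scheme.Modules.pullback f).obj E) F) ↔
      f x ∈ AssSch.Ass E ∧ x ∈ MoreMor.relAss f F := by
  letI := Groth.QCohMod.stalkAlg f x
  letI := FlatMod.moduleStalkOver f F x
  haveI : IsScalarTower (Y.presheaf.stalk (f x)) (X.presheaf.stalk x) (F.presheaf.stalk x) :=
    IsScalarTower.of_algebraMap_smul fun _ _ => rfl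
  haveI : Module.Flat (Y.presheaf.stalk (f x)) (F.presheaf.stalk x) := hfl
  haveI : IsLocalHom (algebraMap (Y.presheaf.stalk (f x)) (X.presheaf.stalk x)) :=
    inferInstanceAs (IsLocalHom (f.stalkMap x).hom)
  rw [ass_iff_of_linearEquiv (N := F.presheaf.stalk x ⊗[Y.presheaf.stalk (f x)] E.presheaf.stalk (f x))
    ((Groth.QCohMod.stalkTensorEquiv _ F x).symm.trans
      ((TensorProduct.comm _ _ _).trans
        ((TensorProduct.congr (LinearEquiv.refl _ _) (Groth.QCohMod.pullStalkEquiv f E x).symm).trans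
          (AlgebraTensorModule.cancelBaseChange _ _ _ _ _)))), maximalIdeal_mem_ass_tensor_iff]
  exact Iff.rfl

/-- Associated points of a module that is flat over the base. -/
theorem mem_ass_iff_relAss (F : X.Modules) (x : X) [IsNoetherianRing (Y.presheaf.stalk (f x))]
    (hfl : FlatMod.IsFlatOverAt f F x) :
    x ∈ AssSch.Ass F ↔ f x ∈ AssSch.Ass (Coh.structureModule Y) ∧ x ∈ MoreMor.relAss f F := by
  letI := Groth.QCohMod.stalkAlg f x
  letI := FlatMod.moduleStalkOver f F x
  haveI : IsScalarTower (Y.presheaf.stalk (f x)) (X.presheaf.stalk x) (F.presheaf.stalk x) :=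
    IsScalarTower.of_algebraMap_smul fun _ _ => rfl
  haveI : Module.Flat (Y.presheaf.stalk (f x)) (F.presheaf.stalk x) := hfl
  haveI : IsLocalHom (algebraMap (Y.presheaf.stalk (f x)) (X.presheaf.stalk x)) :=
    inferInstanceAs (IsLocalHom (f.stalkMap x).hom)
  rw [ass_iff_of_linearEquiv (N := F.presheaf.stalk x ⊗[Y.presheaf.stalk (f x)] Y.presheaf.stalk (f x))
    (AlgebraTensorModule.rid _ _ _).symm, maximalIdeal_mem_ass_tensor_iff,
    ass_iff_of_linearEquiv (Groth.RefRank.oneEquiv (f x)).symm]
  exact Iff.rfl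

theorem isFlatOver_structureModule [Flat f] : FlatMod.IsFlatOver f (Coh.structureModule X) := by
  intro x
  letI := (f.stalkMap x).hom.toAlgebra
  letI := FlatMod.moduleStalkOver f (Coh.structureModule X) x
  haveI : Module.Flat (Y.presheaf.stalk (f x)) (X.presheaf.stalk x) := Flat.stalkMap f x
  exact Module.Flat.of_linearEquiv
    ({ (Groth.RefRank.oneEquiv x).symm.toAddEquiv with
       map_smul' := fun r v => ((Groth.RefRank.oneEquiv x).symm.map_smul (f.stalkMap x r) v).trans
        (Algebra.smul_def r _).symm } :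
      (Coh.structureModule X).presheaf.stalk x ≃ₗ[Y.presheaf.stalk (f x)] X.presheaf.stalk x)

/-- Associated points of a flat inverse image. -/
theorem mem_ass_pullback_iff [Flat f] (E : Y.Modules) (x : X)
    [IsNoetherianRing (Y.presheaf.stalk (f x))] :
    x ∈ AssSch.Ass ((Scheme.Modules.pullback f).obj E) ↔
      f x ∈ AssSch.Ass E ∧ x ∈ MoreMor.relAss f (Coh.structureModule X) := by
  rw [← mem_ass_tensor_iff f E _ x (isFlatOver_structureModule f x)]
  exact Iff.of_eq (congrArg (x ∈ ·) (ass_congr (SecTwist.unitorR _).symm))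

variable {f} {T : Scheme.{u}} {i : T ⟶ X} {K : CommRingCat.{u}} {y : Y}

/-- The local rings of a scheme-theoretic fibre. -/
theorem stalkMap_of_fibre {b : T ⟶ Spec (Y.residueField y)}
    (H : IsPullback i b f (Y.fromSpecResidueField y)) (t : T) :
    Function.Surjective (i.stalkMap t).hom ∧
      RingHom.ker (i.stalkMap t).hom =
        (maximalIdeal (Y.presheaf.stalk (f (i t)))).map (f.stalkMap (i t)).hom := by
  obtain ⟨j, hj, rfl⟩ : ∃ j : T ⟶ f.fiber y, IsIso j ∧ i = j ≫ f.fiberι y :=
    ⟨H.isoPullback.hom, inferInstance, H.isoPullback_hom_fst.symm⟩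
  obtain ⟨h1, h2⟩ := Groth.Agent.S9501.result f y (j t)
  have hb := ConcreteCategory.bijective_of_isIso (j.stalkMap t)
  rw [Scheme.Hom.stalkMap_comp]
  refine ⟨hb.2.comp h1, Eq.trans ?_ h2⟩
  ext a
  exact map_eq_zero_iff _ hb.1

theorem mem_relAss_iff_fibre_tensor {b : T ⟶ Spec (Y.residueField y)}
    (H : IsPullback i b f (Y.fromSpecResidueField y)) (F : X.Modules) (t : T) :
    letI := Groth.QCohMod.stalkAlg i t
    i t ∈ MoreMor.relAss f F ↔
      maximalIdeal (T.presheaf.stalk t) ∈ associatedPrimes (T.presheaf.stalk t)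
        (T.presheaf.stalk t ⊗[X.presheaf.stalk (i t)] F.presheaf.stalk (i t)) := by
  letI := Groth.QCohMod.stalkAlg i t
  exact Groth.Flatmor4.mem_relAss_iff f F (i t) (stalkMap_of_fibre H t).1 (stalkMap_of_fibre H t).2

/-- The relative assassin is the assassin of the fibres. -/
theorem mem_relAss_iff_fibre {b : T ⟶ Spec (Y.residueField y)}
    (H : IsPullback i b f (Y.fromSpecResidueField y)) (F : X.Modules) (t : T) :
    i t ∈ MoreMor.relAss f F ↔ t ∈ AssSch.Ass ((Scheme.Modules.pullback i).obj F) := by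
  rw [ass_iff_of_linearEquiv (Groth.QCohMod.pullStalkEquiv i F t).symm]
  exact mem_relAss_iff_fibre_tensor H F t

theorem mem_relAss_structure_iff_fibre {b : T ⟶ Spec (Y.residueField y)}
    (H : IsPullback i b f (Y.fromSpecResidueField y)) (t : T) :
    i t ∈ MoreMor.relAss f (Coh.structureModule X) ↔ t ∈ AssSch.Ass (Coh.structureModule T) := by
  letI := Groth.QCohMod.stalkAlg i t
  rw [mem_relAss_iff_fibre_tensor H, ass_iff_of_linearEquiv
    ((Groth.RefRank.oneEquiv t).symm.trans
      ((TensorProduct.AlgebraTensorModule.rid (X.presheaf.stalk (i t)) (T.presheaf.stalk t)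
          (T.presheaf.stalk t)).symm.trans
        (TensorProduct.AlgebraTensorModule.congr (LinearEquiv.refl _ _) (Groth.RefRank.oneEquiv (i t)))))]

theorem mem_relAss_iff_fiber (f : X ⟶ Y) (F : X.Modules) {y : Y} (z : f.fiber y) :
    f.fiberι y z ∈ MoreMor.relAss f F ↔
      z ∈ AssSch.Ass ((Scheme.Modules.pullback (f.fiberι y)).obj F) :=
  mem_relAss_iff_fibre (IsPullback.of_hasPullback f (Y.fromSpecResidueField y)) F z

theorem mem_relAss_iff_asFiber (f : X ⟶ Y) (F : X.Modules) (x : X) :
    x ∈ MoreMor.relAss f F ↔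
      f.asFiber x ∈ AssSch.Ass ((Scheme.Modules.pullback (f.fiberι (f x))).obj F) := by
  rw [← mem_relAss_iff_fiber, f.fiberι_asFiber]

end Scheme

end Groth.FBaseGeom
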