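/-
Geometric connectedness / irreducibility for `FBase`-style base changes.
-/
import Groth.Prelude.Def_FDesc
import Groth.Agent.VarietyBC.Components
import Mathlib.Topology.LocalAtTarget

open CategoryTheory CategoryTheory.Limits AlgebraicGeometry TensorProduct Topology Set

universe u

set_option backward.isDefEq.respectTransparency false

namespace Groth.FBaseGeom

open Groth.VarietyBC

/-- An open map with connected fibres has connected preimages of connected sets. -/
theorem isConnected_preimage_of_isOpenMap {α β : Type*} [TopologicalSpace α] [TopologicalSpace β]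
    {f : α → β} (hf : Continuous f) (ho : IsOpenMap f) (hfib : ∀ x, _root_.IsConnected (f ⁻¹' {x}))
    {Z : Set β} (hZ : _root_.IsConnected Z) : _root_.IsConnected (f ⁻¹' Z) := by
  have : ConnectedSpace Z := isConnected_iff_connectedSpace.1 hZ
  have hs : Function.Surjective (Z.restrictPreimage f) := by
    rintro ⟨z, hz⟩
    obtain ⟨a, ha⟩ := (hfib z).nonempty
    have ha' : f a = z := ha
    exact ⟨⟨a, show f a ∈ Z from ha'.symm ▸ hz⟩, Subtype.ext ha'⟩
  have hq : IsQuotientMap (Z.restrictPreimage f) :=
    (ho.restrictPreimage Z).isQuotientMap hf.restrictPreimage hs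
  have hfib' : ∀ z : Z, _root_.IsConnected (Z.restrictPreimage f ⁻¹' {z}) := by
    intro z
    refine (IsInducing.subtypeVal.isPreconnected_image).1 ?_ |> fun h => ⟨(hs z), h⟩
    have e : Subtype.val '' (Z.restrictPreimage f ⁻¹' {z}) = f ⁻¹' {z.1} := by
      ext a
      constructor
      · rintro ⟨b, hb, rfl⟩
        exact congrArg Subtype.val hb
      · intro ha
        exact ⟨⟨a, show f a ∈ Z from (show f a = z.1 from ha).symm ▸ z.2⟩, Subtype.ext ha, rfl⟩
    rw [e]
    exact (hfib z.1).isPreconnected
  have h := hq.isCoinducing.isConnected_preimage_of_isClosed hfib' isClosed_univ isConnected_univ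
  rw [preimage_univ] at h
  have h' := h.image _ continuous_subtype_val.continuousOn
  rwa [image_univ, Subtype.range_coe] at h'

variable {k : Type u} [Field k] {X : Scheme.{u}} [X.Over (Spec (CommRingCat.of k))]

attribute [local instance] Curv2.resAlgebra

/-- A connected set above `x0` containing its fibre makes the component geometrically connected. -/
theorem isConnected_preimage_connectedComponent (K : Type u) [Field K] [Algebra k K] (x0 : X)
    {C : Set (Curv2.bc k X K)} (hC : _root_.IsPreconnected C)
    (hx0 : Curv2.bcFst k X K ⁻¹' {x0} ⊆ C) :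
    _root_.IsConnected (Curv2.bcFst k X K ⁻¹' connectedComponent x0) := by
  obtain ⟨c, hc⟩ := surjective_bcFst (k := k) (X := X) K x0
  have hcC : c ∈ C := hx0 hc
  have key : Curv2.bcFst k X K ⁻¹' connectedComponent x0 = connectedComponent c := by
    refine Subset.antisymm (fun x' hx' => ?_) fun x' hx' => ?_
    · have h := image_connectedComponent_bcFst K x'
      rw [← connectedComponent_eq (show Curv2.bcFst k X K x' ∈ connectedComponent x0 from hx')] at h
      obtain ⟨z, hz, hz0⟩ := h.ge (mem_connectedComponent (x := x0))
      have hzC : z ∈ connectedComponent c := hC.subset_connectedComponent hcC (hx0 hz0)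
      rw [connectedComponent_eq hzC, ← connectedComponent_eq hz]
      exact mem_connectedComponent
    · have hc' : Curv2.bcFst k X K c = x0 := hc
      rw [mem_preimage, ← hc']
      exact (Curv2.bcFst k X K).continuous.image_connectedComponent_subset c ⟨x', hx', rfl⟩
  rw [key]
  exact isConnected_connectedComponent

theorem geometricallyConnected_of_forall_preimage [ConnectedSpace X] (x0 : X)
    (h : ∀ (K : Type u) [Field K] [Algebra k K],
      _root_.IsConnected (Curv2.bcFst k X K ⁻¹' connectedComponent x0)) :
    GeometricallyConnected (X ↘ (Spec (CommRingCat.of k))) :=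
  geometricallyConnected_iff_forall.2 fun K _ _ => by
    refine connectedSpace_iff_univ.2 ?_
    have := h K
    rwa [PreconnectedSpace.connectedComponent_eq_univ, preimage_univ] at this

/-- A point at which `k` is separably closed makes its component geometrically connected. -/
theorem isConnected_preimage_component_of_sepClosedAt (K : Type u) [Field K] [Algebra k K] {x0 : X}
    (h : SepClosedAt k X x0) :
    _root_.IsConnected (Curv2.bcFst k X K ⁻¹' connectedComponent x0) :=
  isConnected_preimage_connectedComponent K x0
    (isIrreducible_preimage_of_sepClosedAt K h).isConnected.isPreconnected subset_rfl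

theorem geometricallyConnected_of_sepClosedAt [ConnectedSpace X] {x0 : X} (h : SepClosedAt k X x0) :
    GeometricallyConnected (X ↘ (Spec (CommRingCat.of k))) :=
  geometricallyConnected_of_forall_preimage x0 fun K _ _ =>
    isConnected_preimage_component_of_sepClosedAt K h

theorem isConnected_preimage_of_isSepClosed [IsSepClosed k] (K : Type u) [Field K] [Algebra k K]
    {Z : Set X} (hZ : _root_.IsConnected Z) : _root_.IsConnected (Curv2.bcFst k X K ⁻¹' Z) :=
  isConnected_preimage_of_isOpenMap (Curv2.bcFst k X K).continuous (isOpenMap_bcFst K)
    (fun x => isConnected_fibre K x) hZ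

theorem isIrreducible_preimage_of_isSepClosed [IsSepClosed k] (K : Type u) [Field K] [Algebra k K]
    {Z : Set X} (hZ : IsIrreducible Z) : IsIrreducible (Curv2.bcFst k X K ⁻¹' Z) := by
  refine hZ.preimage_of_isPreirreducible_fiber _ (isOpenMap_bcFst K)
    (fun x => (isIrreducible_preimage_of_sepClosedAt K (sepClosedAt_of_isSepClosed x)).isPreirreducible) ?_
  rw [(surjective_bcFst (X := X) K).range_eq, Set.inter_univ]
  exact hZ.nonempty

/-- The structure map of `κ(x)` is unique. -/
theorem toAlgebra_eq_resAlgebra (x : X) (φ : k →+* X.residueField x)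
    (h : Spec.map (CommRingCat.ofHom φ) = X.fromSpecResidueField x ≫ (X ↘ Spec (CommRingCat.of k))) :
    φ.toAlgebra = Curv2.resAlgebra k X x := by
  rw [fromSpecResidueField_str] at h
  have e : φ = Curv2.resMap k X x := congrArg CommRingCat.Hom.hom (Spec.map_injective h)
  rw [e]

theorem residueFieldProp_iff (x : X) (P : ∀ (K : Type u) [Field K] [Algebra k K], Prop)
    (h : FBase.ResidueFieldProp (X ↘ Spec (CommRingCat.of k)) x P) : P (X.residueField x) := by
  obtain ⟨φ, hφ, hP⟩ := h
  rw [← toAlgebra_eq_resAlgebra x φ hφ]
  exact hP

theorem sepClosedAt_of_separableClosure_eq_bot (x : X)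
    (h : separableClosure k (X.residueField x) = ⊥) : SepClosedAt k X x := fun a ha =>
  IntermediateField.mem_bot.mp (h ▸ (mem_separableClosure_iff (F := k)).mpr ha)

end Groth.FBaseGeom

namespace Groth.FBaseGeom

/-- A geometrically connected source makes the component of its image geometrically connected. -/
theorem isConnected_preimage_component_of_source {k : Type u} [Field k] {X Y : Scheme.{u}}
    [X.Over (Spec (CommRingCat.of k))] (g : Y ⟶ Spec (CommRingCat.of k)) [GeometricallyConnected g]
    (h : Y ⟶ X) (w : h ≫ (X ↘ Spec (CommRingCat.of k)) = g) (y : Y) (K : Type u) [Field K] [Algebra k K] :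
    _root_.IsConnected (Curv2.bcFst k X K ⁻¹' connectedComponent (h y)) := by
  let f := X ↘ Spec (CommRingCat.of k)
  let a := Spec.map (CommRingCat.ofHom (algebraMap k K))
  have : ConnectedSpace (pullback g a : Scheme.{u}) :=
    pullback_of_geometrically GeometricallyConnected.geometrically_connectedSpace K a
  let q : pullback g a ⟶ Curv2.bc k X K := pullback.lift (pullback.fst g a ≫ h) (pullback.snd g a)
    (by rw [Category.assoc, w]; exact pullback.condition)
  have hp : IsPullback q (pullback.fst g a) (Curv2.bcFst k X K) h :=
    IsPullback.flip <| IsPullback.flip <|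
      IsPullback.of_right (by
          rw [show q ≫ pullback.snd f a = pullback.snd g a from pullback.lift_snd _ _ _, w]
          exact (IsPullback.of_hasPullback g a).flip)
        (pullback.lift_fst _ _ _) (IsPullback.of_hasPullback f a).flip
  refine Groth.FBaseGeom.isConnected_preimage_connectedComponent K (h y)
    (C := Set.range q) (isConnected_range q.continuous).isPreconnected fun z hz => ?_
  obtain ⟨t, ht, -⟩ := Scheme.Pullback.exists_preimage_pullback (f := Curv2.bcFst k X K) (g := h) z y hz
  refine ⟨hp.isoPullback.inv t, ?_⟩
  rw [← Scheme.Hom.comp_apply, hp.isoPullback_inv_fst]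
  exact ht

/-- A geometrically irreducible set makes its component geometrically connected. -/
theorem isConnected_preimage_component_of_irreducible {k : Type u} [Field k] {X : Scheme.{u}}
    [X.Over (Spec (CommRingCat.of k))] {Y : Set X} {y : X} (hy : y ∈ Y) (K : Type u) [Field K] [Algebra k K]
    (h : IsIrreducible (Curv2.bcFst k X K ⁻¹' Y)) :
    _root_.IsConnected (Curv2.bcFst k X K ⁻¹' connectedComponent y) :=
  Groth.FBaseGeom.isConnected_preimage_connectedComponent K y h.isConnected.isPreconnected
    (preimage_mono (singleton_subset_iff.2 hy))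

end Groth.FBaseGeom
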