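/-
Spectra of purely inseparable field extensions are universal homeomorphisms.
-/
import Groth.Prelude.Def_Flat
import Groth.Agent.HTopHyper.UnivHomeo
import Mathlib.FieldTheory.PurelyInseparable.Basic

open CategoryTheory CategoryTheory.Limits AlgebraicGeometry

universe u

set_option backward.isDefEq.respectTransparency false

namespace Groth.FBaseGeom

/-- `Spec k' → Spec k` is a universal homeomorphism for a purely inseparable extension `k'/k`. -/
theorem isUnivHomeo_specMap {k k' : Type u} [Field k] [Field k'] [Algebra k k'] [IsPurelyInseparable k k'] :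
    FlatMor.IsUnivHomeo (Spec.map (CommRingCat.ofHom (algebraMap k k'))) := by
  refine Groth.HTopHyper.isUnivHomeo_iff.mpr ⟨?_, ?_, ⟨fun p => ⟨Classical.arbitrary _, Subsingleton.elim _ _⟩⟩⟩
  · rw [IsIntegralHom.SpecMap_iff]
    exact algebraMap_isIntegral_iff.mpr inferInstance
  · refine ((tfae_universallyInjective _).out 0 1).mpr fun K hK g₁ g₂ h => ?_
    letI := hK
    obtain ⟨φ₁, rfl⟩ := Spec.map_surjective g₁
    obtain ⟨φ₂, rfl⟩ := Spec.map_surjective g₂
    have h' := Spec.map_injective (by simpa [Spec.map_comp] using h :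
      Spec.map (CommRingCat.ofHom (algebraMap k k') ≫ φ₁) = Spec.map (CommRingCat.ofHom (algebraMap k k') ≫ φ₂))
    congr 1
    exact CommRingCat.hom_ext
      (IsPurelyInseparable.injective_comp_algebraMap k k' K congr($(h').hom))

end Groth.FBaseGeom
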