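/-
Descent and images for `geometrically P`.
-/
import Groth.Prelude.Def_FDesc
import Groth.Agent.Agf.SmoothRed
import Mathlib.AlgebraicGeometry.Geometrically.Connected
import Mathlib.AlgebraicGeometry.Geometrically.Irreducible
import Mathlib.AlgebraicGeometry.Geometrically.Integral

open CategoryTheory CategoryTheory.Limits AlgebraicGeometry

universe u

set_option backward.isDefEq.respectTransparency false

namespace Groth.FBaseGeom

/-- `geometrically P` descends along surjective base change, if `P` descends along flat surjections. -/
theorem geometrically_of_pullback_snd (P : ObjectProperty Scheme.{u}) [P.IsClosedUnderIsomorphisms]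
    (hP : ∀ {Z W : Scheme.{u}} (p : Z ⟶ W), Flat p → Surjective p → P Z → P W)
    {X Y Y' : Scheme.{u}} (f : X ⟶ Y) (g : Y' ⟶ Y) [Surjective g]
    (h : geometrically P (pullback.snd f g)) : geometrically P f := by
  rw [geometrically_iff_of_isClosedUnderIsomorphisms]
  intro L _ y
  obtain ⟨w, -⟩ := (pullback.snd g y).surjective (Classical.arbitrary (Spec (CommRingCat.of L)))
  let s := (pullback g y).fromSpecResidueField w
  let Ω : Type u := (pullback g y).residueField w
  let a : Spec (CommRingCat.of Ω) ⟶ Y' := s ≫ pullback.fst g y
  let b : Spec (CommRingCat.of Ω) ⟶ Spec (CommRingCat.of L) := s ≫ pullback.snd g y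
  have hab : a ≫ g = b ≫ y := by simp [a, b, pullback.condition]
  have hb : Flat b := by
    obtain ⟨φ, e⟩ := Spec.map_surjective b
    rw [← e, Flat.SpecMap_iff]
    algebraize [φ.hom]
    exact RingHom.flat_algebraMap_iff.mpr inferInstance
  have hbs : Surjective b := ⟨fun p => ⟨Classical.arbitrary _, Subsingleton.elim _ _⟩⟩
  have hsq : IsPullback (pullback.fst (pullback.snd f g) a ≫ pullback.fst f g)
      (pullback.snd (pullback.snd f g) a) f (b ≫ y) := by
    rw [← hab]
    exact ((IsPullback.of_hasPullback (pullback.snd f g) a).paste_horiz (IsPullback.of_hasPullback f g))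
  let p : pullback (pullback.snd f g) a ⟶ pullback f y :=
    pullback.lift (pullback.fst (pullback.snd f g) a ≫ pullback.fst f g)
      (pullback.snd (pullback.snd f g) a ≫ b) (by simpa using hsq.w)
  have hp : IsPullback p (pullback.snd (pullback.snd f g) a) (pullback.snd f y) b :=
    IsPullback.of_right (by rwa [pullback.lift_fst]) (by simp [p]) (IsPullback.of_hasPullback f y)
  exact hP p (MorphismProperty.of_isPullback hp.flip hb) (MorphismProperty.of_isPullback hp.flip hbs)
    (pullback_of_geometrically h Ω a)

/-- `geometrically P` passes to surjective images, if `P` does. -/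
theorem geometrically_of_surjective (P : ObjectProperty Scheme.{u}) [P.IsClosedUnderIsomorphisms]
    (hP : ∀ {Z W : Scheme.{u}} (p : Z ⟶ W), Surjective p → P Z → P W)
    {X X' Y : Scheme.{u}} (f : X ⟶ Y) (g : X' ⟶ Y) (h : X ⟶ X') (w : h ≫ g = f) [Surjective h]
    (hf : geometrically P f) : geometrically P g := by
  rw [geometrically_iff_of_isClosedUnderIsomorphisms]
  intro L _ y
  have hp : IsPullback (pullback.lift (pullback.fst f y ≫ h) (pullback.snd f y)
      (by rw [Category.assoc, w, pullback.condition]) : pullback f y ⟶ pullback g y)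
      (pullback.fst f y) (pullback.fst g y) h :=
    IsPullback.flip <| IsPullback.of_bot (by simpa [w] using IsPullback.of_hasPullback f y)
      (by simp) (IsPullback.of_hasPullback g y)
  exact hP _ (MorphismProperty.of_isPullback (P := (@Surjective : MorphismProperty Scheme.{u})) hp.flip ‹_›)
    (pullback_of_geometrically hf L y)

theorem irreducibleSpace_of_surjective {Z W : Scheme.{u}} (p : Z ⟶ W) (hp : Surjective p)
    (h : IrreducibleSpace Z) : IrreducibleSpace W := by
  rw [irreducibleSpace_def, Set.top_eq_univ, ← hp.surj.range_eq, ← Set.image_univ]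
  exact (IrreducibleSpace.isIrreducible_univ Z).image _ p.continuous.continuousOn

theorem connectedSpace_of_surjective {Z W : Scheme.{u}} (p : Z ⟶ W) (hp : Surjective p)
    (h : ConnectedSpace Z) : ConnectedSpace W :=
  hp.surj.connectedSpace p.continuous

theorem geometricallyIrreducible_of_pullback_snd {X Y Y' : Scheme.{u}} (f : X ⟶ Y) (g : Y' ⟶ Y)
    [Surjective g] (h : GeometricallyIrreducible (pullback.snd f g)) : GeometricallyIrreducible f :=
  ⟨geometrically_of_pullback_snd (IrreducibleSpace ·)
    (fun p _ hp => irreducibleSpace_of_surjective p hp) f g h.geometrically_irreducibleSpace⟩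

theorem geometricallyConnected_of_pullback_snd {X Y Y' : Scheme.{u}} (f : X ⟶ Y) (g : Y' ⟶ Y)
    [Surjective g] (h : GeometricallyConnected (pullback.snd f g)) : GeometricallyConnected f :=
  ⟨geometrically_of_pullback_snd (ConnectedSpace ·)
    (fun p _ hp => connectedSpace_of_surjective p hp) f g h.geometrically_connectedSpace⟩

theorem geometricallyReduced_of_pullback_snd {X Y Y' : Scheme.{u}} (f : X ⟶ Y) (g : Y' ⟶ Y)
    [Surjective g] (h : GeometricallyReduced (pullback.snd f g)) : GeometricallyReduced f :=
  ⟨geometrically_of_pullback_snd IsReduced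
    (fun p _ _ hZ => Groth.Agf.isReduced_of_flat_surjective p) f g h.geometrically_isReduced⟩

theorem surjective_specMap {k K : Type u} [Field k] [Field K] [Algebra k K] :
    Surjective (Spec.map (CommRingCat.ofHom (algebraMap k K))) :=
  ⟨fun p => ⟨Classical.arbitrary _, Subsingleton.elim _ _⟩⟩

end Groth.FBaseGeom
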