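/-
The finite separable level at which the points over a given point become geometrically primary.
-/
import Groth.Agent.FBaseGeom.Geometric

open CategoryTheory CategoryTheory.Limits AlgebraicGeometry TensorProduct Topology Set

universe u

set_option backward.isDefEq.respectTransparency false

namespace Groth.FBaseGeom

open Groth.VarietyBC

section Algebra

variable {k : Type u} [Field k] {L : Type u} [Field L] [Algebra k L] {S : Type u} [Field S] [Algebra k S]
  [IsSepClosed S]

omit [IsSepClosed S] in
/-- The algebra maps into a quotient of `L ⊗ S` by a prime agree on `k`. -/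
theorem tensor_algebraMap_eq (c : k) :
    (algebraMap k L c) ⊗ₜ[k] (1 : S) = (1 : L) ⊗ₜ[k] algebraMap k S c := by
  rw [Algebra.algebraMap_eq_smul_one, Algebra.algebraMap_eq_smul_one, TensorProduct.smul_tmul]

/-- A separable element of `L` is congruent, modulo a prime of `L ⊗ S`, to a conjugate in `S`. -/
theorem exists_root_congr (P : Ideal (L ⊗[k] S)) [P.IsPrime] {a : L} (ha : IsSeparable k a) :
    ∃ e ∈ (minpoly k a).rootSet S, a ⊗ₜ[k] (1 : S) - (1 : L) ⊗ₜ[k] e ∈ P := by
  let Q := (L ⊗[k] S) ⧸ P
  let u : L →ₐ[k] Q := (Ideal.Quotient.mkₐ k P).comp Algebra.TensorProduct.includeLeft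
  let v : S →ₐ[k] Q := (Ideal.Quotient.mkₐ k P).comp Algebra.TensorProduct.includeRight
  have hs : ((minpoly k a).map (algebraMap k S)).Splits :=
    IsSepClosed.splits_codomain _ ha
  have h : u a ∈ (minpoly k a).rootSet Q := by
    rw [Polynomial.mem_rootSet']
    refine ⟨Polynomial.Monic.ne_zero ((minpoly.monic ha.isIntegral).map _), ?_⟩
    rw [Polynomial.aeval_algHom_apply, minpoly.aeval, map_zero]
  rw [← hs.image_rootSet v] at h
  obtain ⟨e, he, hev⟩ := h
  exact ⟨e, he, Ideal.Quotient.eq.mp hev.symm⟩

omit [IsSepClosed S] in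
/-- Two elements of `S` congruent modulo a proper ideal of `L ⊗ S` are equal. -/
theorem eq_of_congr (P : Ideal (L ⊗[k] S)) [P.IsPrime] {e e' : S}
    (h : (1 : L) ⊗ₜ[k] e - (1 : L) ⊗ₜ[k] e' ∈ P) : e = e' := by
  let v : S →+* (L ⊗[k] S) ⧸ P :=
    (Ideal.Quotient.mk P).comp (Algebra.TensorProduct.includeRight : S →ₐ[k] L ⊗[k] S).toRingHom
  exact v.injective (Ideal.Quotient.eq.mpr h)

variable [Algebra.IsSeparable k S]

/-- If `E` contains the conjugates of a `k`-basis of the separable closure of `k` in `L`, then a
prime of `L ⊗ S` is determined by its trace on `L ⊗ E`. -/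
theorem prime_eq_of_comap_eq {ι : Type*} (b : Module.Basis ι k (separableClosure k L))
    (E : IntermediateField k S) (hE : ∀ i, (minpoly k (b i : L)).rootSet S ⊆ E)
    (P P' : Ideal (L ⊗[k] S)) [P.IsPrime] [P'.IsPrime]
    (h : P.comap (Algebra.TensorProduct.map (AlgHom.id k L) E.val).toRingHom =
      P'.comap (Algebra.TensorProduct.map (AlgHom.id k L) E.val).toRingHom) : P = P' := by
  let F := separableClosure k L
  let Q := (L ⊗[k] S) ⧸ P
  let u : L →ₐ[k] Q := (Ideal.Quotient.mkₐ k P).comp Algebra.TensorProduct.includeLeft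
  let v : S →ₐ[k] Q := (Ideal.Quotient.mkₐ k P).comp Algebra.TensorProduct.includeRight
  have hv : Function.Injective v := v.toRingHom.injective
  have hin : ∀ a : F, ∃ e : E, u (a : L) = v (e : S) := by
    intro a
    have hsub : (⊤ : Submodule k F) ≤
        ((Subalgebra.toSubmodule (E.toSubalgebra.map v)).comap (u.comp F.val).toLinearMap) := by
      rw [← b.span_eq, Submodule.span_le]
      rintro _ ⟨i, rfl⟩
      obtain ⟨e, he, hc⟩ := exists_root_congr P (mem_separableClosure_iff.mp (b i).2)
      exact ⟨e, hE i he, (Ideal.Quotient.eq.mpr hc).symm⟩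
    obtain ⟨e, he, hea⟩ := hsub (Submodule.mem_top (x := a))
    exact ⟨⟨e, he⟩, hea.symm⟩
  choose g hg using hin
  let σ : F →ₐ[k] S :=
    { toFun := fun a => (g a : S)
      map_one' := hv (by rw [← hg]; simp)
      map_mul' := fun a c => hv (by rw [← hg, map_mul, ← hg, ← hg]; simp)
      map_zero' := hv (by rw [← hg]; simp)
      map_add' := fun a c => hv (by rw [← hg, map_add, ← hg, ← hg]; simp)
      commutes' := fun c => hv (by rw [← hg, v.commutes]; exact u.commutes c) }
  have hP : ∀ a : F, (a : L) ⊗ₜ[k] (1 : S) - (1 : L) ⊗ₜ[k] σ a ∈ P := fun a => Ideal.Quotient.eq.mp (hg a)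
  have hP' : ∀ a : F, (a : L) ⊗ₜ[k] (1 : S) - (1 : L) ⊗ₜ[k] σ a ∈ P' := by
    intro a
    have hm : (a : L) ⊗ₜ[k] (1 : E) - (1 : L) ⊗ₜ[k] g a ∈
        P.comap (Algebra.TensorProduct.map (AlgHom.id k L) E.val).toRingHom := by
      rw [Ideal.mem_comap]
      simpa [σ] using hP a
    rw [h, Ideal.mem_comap] at hm
    simpa [σ] using hm
  let : Algebra F S := σ.toRingHom.toAlgebra
  have : IsScalarTower k F S := IsScalarTower.of_algebraMap_eq fun c => (σ.commutes c).symm
  have : Algebra.IsSeparable F S := Algebra.isSeparable_tower_top_of_isSeparable k F S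
  have hF : ∀ x : L, IsSeparable F x → x ∈ Set.range (algebraMap F L) := fun x hx =>
    ⟨⟨x, mem_separableClosure_iff.mpr (IsSeparable.of_algebra_isSeparable_of_isSeparable k hx)⟩, rfl⟩
  have hfield : IsField (L ⊗[F] S) := isField_tensor_sepClosure (k := F) hF S
  let π : L ⊗[k] S →ₐ[k] L ⊗[F] S := Algebra.TensorProduct.lift
    ((Algebra.TensorProduct.includeLeft : L →ₐ[F] L ⊗[F] S).restrictScalars k)
    ((Algebra.TensorProduct.includeRight : S →ₐ[F] L ⊗[F] S).restrictScalars k)
    (fun _ _ => Commute.all _ _)
  suffices key : ∀ (R : Ideal (L ⊗[k] S)), R.IsPrime →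
      (∀ a : F, (a : L) ⊗ₜ[k] (1 : S) - (1 : L) ⊗ₜ[k] σ a ∈ R) → R = RingHom.ker π.toRingHom by
    rw [key P ‹_› hP, key P' ‹_› hP']
  intro R hR hRσ
  let Q' := (L ⊗[k] S) ⧸ R
  let uR : L →+* Q' := (Ideal.Quotient.mk R).comp Algebra.TensorProduct.includeLeftRingHom
  let vR : S →+* Q' :=
    (Ideal.Quotient.mk R).comp (Algebra.TensorProduct.includeRight : S →ₐ[k] L ⊗[k] S).toRingHom
  let uF : L →ₐ[F] Q' := { uR with commutes' := fun _ => rfl }
  let vF : S →ₐ[F] Q' := { vR with commutes' := fun a => (Ideal.Quotient.eq.mpr (hRσ a)).symm }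
  let ψ : L ⊗[F] S →ₐ[F] Q' := Algebra.TensorProduct.lift uF vF fun _ _ => Commute.all _ _
  have hψ : ψ.toRingHom.comp π.toRingHom = Ideal.Quotient.mk R := by
    refine RingHom.ext fun z => ?_
    induction z using TensorProduct.induction_on with
    | zero => simp
    | tmul x y =>
      change ψ (π (x ⊗ₜ[k] y)) = _
      simp only [π, ψ, Algebra.TensorProduct.lift_tmul, AlgHom.restrictScalars_apply,
        Algebra.TensorProduct.includeLeft_apply, Algebra.TensorProduct.includeRight_apply,
        Algebra.TensorProduct.tmul_mul_tmul, mul_one, one_mul]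
      change Ideal.Quotient.mk R (x ⊗ₜ[k] 1) * Ideal.Quotient.mk R (1 ⊗ₜ[k] y) = _
      rw [← map_mul, Algebra.TensorProduct.tmul_mul_tmul, mul_one, one_mul]
    | add z w hz hw => rw [map_add, map_add, hz, hw]
  let _ : Field (L ⊗[F] S) := hfield.toField
  rw [← Ideal.mk_ker (I := R), ← hψ, RingHom.ker_comp_of_injective _ ψ.toRingHom.injective]

end Algebra

end Groth.FBaseGeom

namespace Groth.FBaseGeom

open Groth.VarietyBC

variable {k : Type u} [Field k] {X : Scheme.{u}} [X.Over (Spec (CommRingCat.of k))]

attribute [local instance] Curv2.resAlgebra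

/-- Components of `X_L` surject onto components of `X_K`. -/
theorem image_connectedComponent_bcMap {K L : Type u} [Field K] [Algebra k K] [Field L] [Algebra k L]
    (i : K →ₐ[k] L) (y : Curv2.bc k X L) :
    bcMap i '' connectedComponent y = connectedComponent (bcMap i y) := by
  let : Algebra K L := i.toRingHom.toAlgebra
  have : IsScalarTower k K L := IsScalarTower.of_algebraMap_eq fun c => (i.commutes c).symm
  let : (Curv2.bc k X K).Over (Spec (CommRingCat.of K)) := ⟨Curv2.bcSnd k X K⟩
  have e : IsScalarTower.toAlgHom k K L = i := AlgHom.ext fun _ => rfl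
  let T := towerIso (k := k) (X := X) (K := K) (L := L)
  have h0 := towerIso_hom_bcMap (k := k) (X := X) (K := K) (L := L)
  rw [e] at h0
  obtain ⟨w, hw⟩ := T.hom.homeomorph.surjective y
  subst hw
  have h1 : T.hom '' connectedComponent w = connectedComponent (T.hom.homeomorph w) :=
    Subset.antisymm (T.hom.continuous.image_connectedComponent_subset w) fun z hz =>
      ⟨T.hom.homeomorph.symm z, by
        have := T.hom.homeomorph.symm.continuous.image_connectedComponent_subset (T.hom.homeomorph w)
          ⟨z, hz, rfl⟩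
        rwa [Homeomorph.symm_apply_apply] at this, T.hom.homeomorph.apply_symm_apply z⟩
  rw [← h1, ← image_comp]
  have hc : (bcMap i : Curv2.bc k X L ⟶ Curv2.bc k X K) ∘ T.hom = Curv2.bcFst K (Curv2.bc k X K) L :=
    funext fun z => congr($h0 z)
  rw [hc, image_connectedComponent_bcFst L w, ← hc]
  rfl

/-- If all finite separable base changes are connected, so is every base change. -/
theorem geometricallyConnected_of_forall_finite_separable [Nonempty X]
    (h : ∀ (K : Type u) [Field K] [Algebra k K] [FiniteDimensional k K] [Algebra.IsSeparable k K],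
      ConnectedSpace (Curv2.bc k X K)) :
    GeometricallyConnected (X ↘ (Spec (CommRingCat.of k))) := by
  let S := SeparableClosure k
  obtain ⟨u⟩ := (inferInstance : Nonempty X)
  have : ConnectedSpace (Curv2.bc k X S) := by
    obtain ⟨y₀, -⟩ := surjective_bcFst (k := k) (X := X) S u
    refine connectedSpace_iff_connectedComponent.2 ⟨y₀, eq_univ_of_forall fun y => ?_⟩
    by_contra hy
    have hd : Disjoint (connectedComponent y₀) (connectedComponent y) :=
      connectedComponent_disjoint fun he => hy (he ▸ mem_connectedComponent)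
    obtain ⟨U, hU, huU, -⟩ := exists_isAffineOpen_mem_and_subset (U := (⊤ : X.Opens)) (x := u) trivial
    obtain ⟨E, hE⟩ := exists_finExt_sep S hU _ _ isClosed_connectedComponent isClosed_connectedComponent hd
    have := E.2
    have : ConnectedSpace (Curv2.bc k X E.1) := h E.1
    obtain ⟨z, hz⟩ := surjective_bcFst (k := k) (X := X) E.1 u
    have himg : ∀ t : Curv2.bc k X S, ∃ a ∈ connectedComponent t, bcMap E.1.val a = z := by
      intro t
      have := (image_connectedComponent_bcMap E.1.val t).ge
        (show z ∈ connectedComponent (bcMap E.1.val t) by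
          rw [PreconnectedSpace.connectedComponent_eq_univ]; trivial)
      exact this
    obtain ⟨a, ha, haz⟩ := himg y₀
    obtain ⟨a', ha', haz'⟩ := himg y
    refine hE a ha a' ha' (haz.trans haz'.symm) ?_
    rw [← bcMap_fst_apply E.1.val a, haz, hz]
    exact huU
  exact geometricallyConnected_of_connectedSpace_bc S

/-- A finite separable level at which the points over finitely many given points are primary. -/
theorem exists_sepClosedAt_level {ι : Type u} [Finite ι] (x : ι → X)
    (hx : ∀ i, FiniteDimensional k (separableClosure k (X.residueField (x i)))) :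
    ∃ E : IntermediateField k (SeparableClosure k), FiniteDimensional k E ∧ ∀ (i : ι) (z : Curv2.bc k X E),
      Curv2.bcFst k X E z = x i → @SepClosedAt E _ (Curv2.bc k X E) ⟨Curv2.bcSnd k X E⟩ z := by
  let S := SeparableClosure k
  have hb : ∀ i, ∃ (n : ℕ), Nonempty (Module.Basis (Fin n) k (separableClosure k (X.residueField (x i)))) := by
    intro i
    have := hx i
    exact ⟨_, ⟨Module.finBasis k _⟩⟩
  choose n b using hb
  let b' := fun i => (b i).some
  let T : Set S := ⋃ i, ⋃ j, (minpoly k ((b' i j : separableClosure k (X.residueField (x i))) :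
    X.residueField (x i))).rootSet S
  have hT : T.Finite := finite_iUnion fun i => finite_iUnion fun j => Polynomial.rootSet_finite _ _
  let E : IntermediateField k S := IntermediateField.adjoin k T
  have hfin : FiniteDimensional k E := by
    have := hT.to_subtype
    exact IntermediateField.finiteDimensional_adjoin fun s _ => (Algebra.IsAlgebraic.isAlgebraic s).isIntegral
  refine ⟨E, hfin, fun i z hz => ?_⟩
  have hTE : ∀ j, (minpoly k ((b' i j : separableClosure k (X.residueField (x i))) :
      X.residueField (x i))).rootSet S ⊆ E := fun j =>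
    ((subset_iUnion₂ (s := fun i j => (minpoly k ((b' i j : separableClosure k (X.residueField (x i))) :
      X.residueField (x i))).rootSet S) i j).trans (IntermediateField.subset_adjoin k T))
  have inj : ∀ y y' : Curv2.bc k X S, bcMap E.val y = z → bcMap E.val y' = z → y = y' := by
    intro y y' hy hy'
    have hr : ∀ w : Curv2.bc k X S, bcMap E.val w = z → w ∈ Set.range (fibreMap (k := k) S (x i)) := by
      intro w hw
      rw [range_fibreMap, mem_preimage, ← bcMap_fst_apply E.val w, hw]
      exact hz
    obtain ⟨P, rfl⟩ := hr y hy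
    obtain ⟨P', rfl⟩ := hr y' hy'
    have hc := tensorTo_bcMap (overSpec_residueField (k := k) (x i)) E.val
    have h1 := congr($hc P)
    have h2 := congr($hc P')
    simp only [Scheme.Hom.comp_apply] at h1 h2
    have h3 := (isEmbedding_fibreMap (k := k) E (x i)).injective
      ((h1.symm.trans (hy.trans hy'.symm)).trans h2)
    exact congrArg _ (PrimeSpectrum.ext
      (prime_eq_of_comap_eq (b' i) E hTE P.asIdeal P'.asIdeal (congrArg PrimeSpectrum.asIdeal h3)))
  let : (Curv2.bc k X E).Over (Spec (CommRingCat.of E)) := ⟨Curv2.bcSnd k X E⟩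
  have hirr : IsIrreducible (Curv2.bcFst E (Curv2.bc k X E) S ⁻¹' {z}) := by
    obtain ⟨a, ha⟩ := surjective_bcFst (k := E) (X := Curv2.bc k X E) S z
    have key : ∀ w, Curv2.bcFst E (Curv2.bc k X E) S w = z →
        bcMap E.val ((towerIso (k := k) (X := X) (K := E) (L := S)).hom w) = z := fun w hw =>
      (congr($(towerIso_hom_bcMap (k := k) (X := X) (K := E) (L := S)) w)).trans hw
    have hs : Curv2.bcFst E (Curv2.bc k X E) S ⁻¹' {z} = {a} := by
      refine Subset.antisymm (fun w hw => ?_) (singleton_subset_iff.2 ha)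
      exact (towerIso (k := k) (X := X) (K := E) (L := S)).hom.homeomorph.injective
        (inj _ _ (key w hw) (key a ha))
    rw [hs]
    exact isIrreducible_singleton
  refine sepClosedIn_of_nilradical_isPrime S (fun E' _ _ _ _ => nonempty_algHom_of_isSepClosed S E')
    ((isIrreducible_preimage_iff S z).mp hirr)

/-- The connected components of `X_E` are geometrically connected at a primary level. -/
theorem isConnected_preimage_component_level (E : Type u) [Field E] [Algebra k E]
    (x' : Curv2.bc k X E) (x : X) (hx : x ∈ connectedComponent (Curv2.bcFst k X E x'))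
    (h : ∀ z : Curv2.bc k X E, Curv2.bcFst k X E z = x →
      @SepClosedAt E _ (Curv2.bc k X E) ⟨Curv2.bcSnd k X E⟩ z)
    (K : Type u) [Field K] [Algebra E K] :
    _root_.IsConnected (@Curv2.bcFst E _ (Curv2.bc k X E) ⟨Curv2.bcSnd k X E⟩ K _ _ ⁻¹'
      connectedComponent x') := by
  let : (Curv2.bc k X E).Over (Spec (CommRingCat.of E)) := ⟨Curv2.bcSnd k X E⟩
  obtain ⟨z, hz, hzx⟩ := (image_connectedComponent_bcFst E x').ge hx
  rw [connectedComponent_eq hz]
  exact isConnected_preimage_component_of_sepClosedAt K (h z hzx)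

/-- A generic point of a component of `X_E` lies over that of a component of `X`. -/
theorem exists_component_bcFst (E : Type u) [Field E] [Algebra k E] {Z' : Set (Curv2.bc k X E)}
    (hZ' : Z' ∈ irreducibleComponents (Curv2.bc k X E)) {z : Curv2.bc k X E} (hz : IsGenericPoint z Z') :
    ∃ (Z : Set X) (hZ : Z ∈ irreducibleComponents X), hZ.1.genericPoint = Curv2.bcFst k X E z := by
  obtain ⟨Z, hZ, hxZ⟩ : ∃ Z ∈ irreducibleComponents X, Curv2.bcFst k X E z ∈ Z :=
    ⟨_, irreducibleComponent_mem_irreducibleComponents _, mem_irreducibleComponent⟩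
  have hg : IsGenericPoint hZ.1.genericPoint Z := by
    have := hZ.1.isGenericPoint_genericPoint_closure
    rwa [(isClosed_of_mem_irreducibleComponents Z hZ).closure_eq] at this
  refine ⟨Z, hZ, ?_⟩
  have : Flat (Curv2.bcFst k X E) := by
    refine MorphismProperty.of_isPullback (P := (@Flat : MorphismProperty Scheme.{u}))
      (IsPullback.of_hasPullback _ _).flip ?_
    rw [Flat.SpecMap_iff]
    exact RingHom.flat_algebraMap_iff.mpr inferInstance
  obtain ⟨g, hgz, hge⟩ := Flat.generalizingMap (Curv2.bcFst k X E) (hg.specializes hxZ)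
  have hcl : Z' ⊆ closure {g} := hz.def ▸ closure_minimal (singleton_subset_iff.2 hgz.mem_closure) isClosed_closure
  have hmax : closure {g} = Z' :=
    (hZ'.2 isIrreducible_singleton.closure hcl).antisymm hcl
  rw [← hge, (IsGenericPoint.eq (show IsGenericPoint g Z' from hmax) hz)]

end Groth.FBaseGeom
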