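/-
Nonvanishing of the reduction of a module modulo the maximal ideal of the base, and base change.
-/
import Groth.Prelude.Def_FlatMod2
import Groth.Agent.S9501
import Groth.Agent.QCohMod.Pullback
import Groth.Agent.QCohMod.PullbackQCoh
import Groth.Agent.FBaseGeom.Descent

open CategoryTheory CategoryTheory.Limits AlgebraicGeometry TensorProduct IsLocalRing

universe u

set_option backward.isDefEq.respectTransparency false
set_option linter.style.haveILetI false
set_option maxHeartbeats 800000
set_option synthInstance.maxHeartbeats 200000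

namespace Groth.FBaseGeom

variable {X Y : Scheme.{u}}

/-- `M` is nonzero in the fibre at `x`: `M_x ⊗ κ(f x) ≠ 0`. -/
def RedNonzero (f : X ⟶ Y) (M : X.Modules) (x : X) : Prop :=
  letI := FlatMod.moduleStalkOver f M x
  maximalIdeal (Y.presheaf.stalk (f x)) • (⊤ : Submodule (Y.presheaf.stalk (f x)) (M.presheaf.stalk x)) ≠ ⊤

theorem redNonzero_iff (f : X ⟶ Y) (M : X.Modules) (x : X) :
    RedNonzero f M x ↔ Nontrivial (M.presheaf.stalk x ⧸
      (((maximalIdeal (Y.presheaf.stalk (f x))).map (f.stalkMap x).hom) •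
        (⊤ : Submodule (X.presheaf.stalk x) (M.presheaf.stalk x)))) := by
  letI := FlatMod.moduleStalkOver f M x
  letI := (f.stalkMap x).hom.toAlgebra
  haveI : IsScalarTower (Y.presheaf.stalk (f x)) (X.presheaf.stalk x) (M.presheaf.stalk x) :=
    .of_algebraMap_smul fun _ _ => rfl
  rw [Submodule.Quotient.nontrivial_iff, RedNonzero]
  have key : (((maximalIdeal (Y.presheaf.stalk (f x))).map (algebraMap (Y.presheaf.stalk (f x)) (X.presheaf.stalk x)))
      • (⊤ : Submodule (X.presheaf.stalk x) (M.presheaf.stalk x))).restrictScalars (Y.presheaf.stalk (f x)) =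
      maximalIdeal (Y.presheaf.stalk (f x)) • (⊤ : Submodule (Y.presheaf.stalk (f x)) (M.presheaf.stalk x)) := by
    exact (Ideal.smul_restrictScalars _ _).trans (by rw [Submodule.restrictScalars_top])
  rw [← key, Ne, Ne, Submodule.restrictScalars_eq_top_iff]
  rfl

theorem nontrivial_fibre_iff (f : X ⟶ Y) (M : X.Modules) [M.IsQuasicoherent] (y : Y) (z : f.fiber y) :
    Nontrivial (((Scheme.Modules.pullback (f.fiberι y)).obj M).presheaf.stalk z) ↔
      RedNonzero f M (f.fiberι y z) := by
  obtain ⟨hs, hk⟩ := Groth.Agent.S9501.result f y z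
  letI := Groth.QCohMod.stalkAlg (f.fiberι y) z
  rw [redNonzero_iff, ← (Groth.QCohMod.pullStalkEquiv (f.fiberι y) M z).toEquiv.nontrivial_congr, ← hk]
  let φ := Algebra.linearMap (X.presheaf.stalk (f.fiberι y z)) ((f.fiber y).presheaf.stalk z)
  have hker : LinearMap.ker φ = RingHom.ker ((f.fiberι y).stalkMap z).hom := by
    ext a
    rfl
  let e : (X.presheaf.stalk (f.fiberι y z) ⧸ RingHom.ker ((f.fiberι y).stalkMap z).hom)
      ≃ₗ[X.presheaf.stalk (f.fiberι y z)] (f.fiber y).presheaf.stalk z :=
    (Submodule.quotEquivOfEq _ _ hker.symm).trans (φ.quotKerEquivOfSurjective hs)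
  exact ((TensorProduct.congr e.symm (LinearEquiv.refl _ _)).trans
    (TensorProduct.quotTensorEquivQuotSMul _ _)).toEquiv.nontrivial_congr

theorem nontrivial_pullback_of_flat {Z : Scheme.{u}} (π : Z ⟶ X) [Flat π] (M : X.Modules) (z : Z)
    (h : Nontrivial (M.presheaf.stalk (π z))) :
    Nontrivial (((Scheme.Modules.pullback π).obj M).presheaf.stalk z) := by
  letI := Groth.QCohMod.stalkAlg π z
  rw [← (Groth.QCohMod.pullStalkEquiv π M z).toEquiv.nontrivial_congr]
  haveI : Module.Flat (X.presheaf.stalk (π z)) (Z.presheaf.stalk z) := Flat.stalkMap π z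
  haveI : IsLocalHom (algebraMap (X.presheaf.stalk (π z)) (Z.presheaf.stalk z)) :=
    inferInstanceAs (IsLocalHom (π.stalkMap z).hom)
  haveI := Module.FaithfullyFlat.of_flat_of_isLocalHom (A := X.presheaf.stalk (π z)) (B := Z.presheaf.stalk z)
  exact Module.FaithfullyFlat.lTensor_nontrivial (X.presheaf.stalk (π z)) (Z.presheaf.stalk z) _

/-- Nonvanishing modulo the maximal ideal of the base passes to base changes. -/
theorem exists_redNonzero_baseChange {Y' : Scheme.{u}} (f : X ⟶ Y) (g : Y' ⟶ Y) (M : X.Modules)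
    [M.IsQuasicoherent] (x : X) (hx : RedNonzero f M x) (y' : Y') (hy : f x = g y') :
    ∃ x' : ↥(pullback f g), pullback.fst f g x' = x ∧ pullback.snd f g x' = y' ∧
      RedNonzero (pullback.snd f g) ((Scheme.Modules.pullback (pullback.fst f g)).obj M) x' := by
  let f' := pullback.snd f g
  obtain ⟨z, rfl⟩ : x ∈ Set.range (f.fiberι (g y')) := by
    rw [Scheme.Hom.range_fiberι]; exact hy
  let π : f'.fiber y' ⟶ f.fiber (g y') :=
    pullback.lift (f'.fiberι y' ≫ pullback.fst f g)
      (f'.fiberToSpecResidueField y' ≫ Spec.map (g.residueFieldMap y')) (by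
        rw [Category.assoc, pullback.condition, Category.assoc, Scheme.Hom.SpecMap_residueFieldMap_fromSpecResidueField]
        exact congrArg (fun q => q ≫ g) pullback.condition)
  have hπ : π ≫ f.fiberι (g y') = f'.fiberι y' ≫ pullback.fst f g := pullback.lift_fst _ _ _
  have hsq : IsPullback π (f'.fiberToSpecResidueField y') (f.fiberToSpecResidueField (g y'))
      (Spec.map (g.residueFieldMap y')) := by
    refine IsPullback.of_right ?_ (pullback.lift_snd _ _ _) (IsPullback.of_hasPullback f (Y.fromSpecResidueField (g y')))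
    rw [show π ≫ pullback.fst f (Y.fromSpecResidueField (g y')) = f'.fiberι y' ≫ pullback.fst f g from hπ,
      Scheme.Hom.SpecMap_residueFieldMap_fromSpecResidueField]
    exact (IsPullback.of_hasPullback f' (Y'.fromSpecResidueField y')).paste_horiz (IsPullback.of_hasPullback f g)
  haveI : Flat π := MorphismProperty.of_isPullback hsq.flip (show Flat (Spec.map (g.residueFieldMap y')) by
    rw [Flat.SpecMap_iff]
    algebraize [(g.residueFieldMap y').hom]
    exact RingHom.flat_algebraMap_iff.2 inferInstance)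
  haveI : Surjective π := MorphismProperty.of_isPullback hsq.flip
    ⟨fun p => ⟨Classical.arbitrary _, Subsingleton.elim _ _⟩⟩
  obtain ⟨z', rfl⟩ := π.surjective z
  refine ⟨f'.fiberι y' z', ?_, f'.range_fiberι y' |>.le ⟨z', rfl⟩, ?_⟩
  · rw [← Scheme.Hom.comp_apply, ← Scheme.Hom.comp_apply, hπ]
  · haveI : ((Scheme.Modules.pullback (pullback.fst f g)).obj M).IsQuasicoherent := inferInstance
    refine (nontrivial_fibre_iff f' _ y' z').1 ?_
    let e : (Scheme.Modules.pullback (f'.fiberι y')).obj ((Scheme.Modules.pullback (pullback.fst f g)).obj M) ≅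
        (Scheme.Modules.pullback π).obj ((Scheme.Modules.pullback (f.fiberι (g y'))).obj M) :=
      (Scheme.Modules.pullbackComp _ _).app M ≪≫ (Scheme.Modules.pullbackCongr hπ.symm).app M ≪≫
        ((Scheme.Modules.pullbackComp _ _).app M).symm
    have h1 := nontrivial_pullback_of_flat π _ z' ((nontrivial_fibre_iff f M (g y') (π z')).2 hx)
    exact ((Groth.QCohMod.stalk z').mapIso e).addCommGroupIsoToAddEquiv.toEquiv.nontrivial_congr.2 h1

end Groth.FBaseGeom
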