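/-
Flatness over the base and nonvanishing modulo the base for external tensor products.
-/
import Groth.Prelude.Def_FlatMod2
import Groth.Agent.QCohMod.Pullback
import Groth.Agent.QCohMod.TensorStalk
import Groth.Agent.FBaseGeom.FibreNonzero

open CategoryTheory CategoryTheory.Limits AlgebraicGeometry TensorProduct IsLocalRing

universe u

set_option backward.isDefEq.respectTransparency false
set_option linter.style.haveILetI false
set_option maxHeartbeats 800000
set_option synthInstance.maxHeartbeats 200000

namespace Groth.FBaseGeom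

section Algebra

variable {R A P M : Type u} [CommRing R] [CommRing A] [Algebra R A]
  [AddCommGroup P] [Module A P] [Module R P] [IsScalarTower R A P]
  [AddCommGroup M] [Module R M] [Module A M] [IsScalarTower R A M]

/-- A flat module over a flat module. -/
theorem flat_tensor_of_flat [Module.Flat A P] [Module.Flat R M] : Module.Flat R (P ⊗[A] M) := by
  rw [Module.Flat.iff_lTensor_injectiveₛ]
  intro Q _ _ N
  let eN := AlgebraTensorModule.assoc R A A P M N
  let eP := AlgebraTensorModule.assoc R A A P M Q
  have hsq : ∀ z, eP (LinearMap.lTensor (P ⊗[A] M) N.subtype z) =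
      LinearMap.lTensor P (AlgebraTensorModule.lTensor A M N.subtype) (eN z) := by
    intro z
    induction z with
    | zero => simp
    | tmul w n =>
      induction w with
      | zero => simp [zero_tmul]
      | tmul b m => simp [eN, eP]
      | add v w hv hw => simp only [add_tmul, map_add, hv, hw]
    | add v w hv hw => simp only [map_add, hv, hw]
  intro z w hzw
  have h0 : Function.Injective (AlgebraTensorModule.lTensor A M N.subtype) :=
    Module.Flat.lTensor_preserves_injective_linearMap (M := M) N.subtype N.injective_subtype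
  apply eN.injective
  apply Module.Flat.lTensor_preserves_injective_linearMap (M := P) _ h0
  rw [← hsq, ← hsq, hzw]

/-- Flatness descends along a faithfully flat module. -/
theorem flat_of_flat_tensor [Module.FaithfullyFlat A P] [Module.Flat R (P ⊗[A] M)] : Module.Flat R M := by
  rw [Module.Flat.iff_lTensor_injectiveₛ]
  intro Q _ _ N
  let eN := AlgebraTensorModule.assoc R A A P M N
  let eP := AlgebraTensorModule.assoc R A A P M Q
  have hsq : ∀ z, eP (LinearMap.lTensor (P ⊗[A] M) N.subtype z) =
      LinearMap.lTensor P (AlgebraTensorModule.lTensor A M N.subtype) (eN z) := by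
    intro z
    induction z with
    | zero => simp
    | tmul w n =>
      induction w with
      | zero => simp [zero_tmul]
      | tmul b m => simp [eN, eP]
      | add v w hv hw => simp only [add_tmul, map_add, hv, hw]
    | add v w hv hw => simp only [map_add, hv, hw]
  have h0 : Function.Injective (LinearMap.lTensor P (AlgebraTensorModule.lTensor A M N.subtype)) := by
    intro z w hzw
    obtain ⟨z, rfl⟩ := eN.surjective z
    obtain ⟨w, rfl⟩ := eN.surjective w
    rw [← hsq, ← hsq] at hzw
    exact congrArg eN (Module.Flat.lTensor_preserves_injective_linearMap (M := P ⊗[A] M) N.subtype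
      N.injective_subtype (eP.injective hzw))
  exact (Module.FaithfullyFlat.lTensor_injective_iff_injective A P _).mp h0

variable (I : Ideal R)

theorem smul_top_tensor_of_smul_top (h : I • (⊤ : Submodule R M) = ⊤) :
    I • (⊤ : Submodule R (P ⊗[A] M)) = ⊤ := by
  rw [eq_top_iff]
  intro z _
  induction z with
  | zero => exact zero_mem _
  | tmul p m =>
    have hm : m ∈ I • (⊤ : Submodule R M) := h.ge Submodule.mem_top
    induction hm using Submodule.smul_induction_on' with
    | smul r hr w _ =>
      have : p ⊗ₜ[A] (r • w) = r • (p ⊗ₜ[A] w) := by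
        rw [← IsScalarTower.algebraMap_smul A r w, TensorProduct.tmul_smul, IsScalarTower.algebraMap_smul]
      rw [this]
      exact Submodule.smul_mem_smul hr Submodule.mem_top
    | add a _ b _ ha hb => rw [TensorProduct.tmul_add]; exact add_mem (ha trivial) (hb trivial)
  | add v w hv hw => exact add_mem (hv trivial) (hw trivial)

theorem smul_top_of_smul_top_tensor [Module.FaithfullyFlat A P]
    (h : I • (⊤ : Submodule R (P ⊗[A] M)) = ⊤) : I • (⊤ : Submodule R M) = ⊤ := by
  let J : Submodule A M := (I.map (algebraMap R A)) • ⊤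
  have hJ : ∀ m : M, m ∈ J ↔ m ∈ I • (⊤ : Submodule R M) := fun m => by
    have := Ideal.smul_restrictScalars (S := A) I (⊤ : Submodule A M)
    rw [Submodule.restrictScalars_top] at this
    exact SetLike.ext_iff.mp this m
  by_contra hne
  haveI : Nontrivial (M ⧸ J) := Submodule.Quotient.nontrivial_iff.2 fun hJt =>
    hne (eq_top_iff.2 fun m _ => (hJ m).1 (hJt.ge Submodule.mem_top))
  haveI : Nontrivial (P ⊗[A] (M ⧸ J)) := Module.FaithfullyFlat.lTensor_nontrivial A P _
  refine not_subsingleton (P ⊗[A] (M ⧸ J)) ⟨fun a b => ?_⟩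
  suffices hz : ∀ z : P ⊗[A] M, LinearMap.lTensor P J.mkQ z = 0 by
    obtain ⟨a, rfl⟩ := LinearMap.lTensor_surjective P J.mkQ_surjective a
    obtain ⟨b, rfl⟩ := LinearMap.lTensor_surjective P J.mkQ_surjective b
    rw [hz, hz]
  intro z
  have hz : z ∈ I • (⊤ : Submodule R (P ⊗[A] M)) := h.ge Submodule.mem_top
  induction hz using Submodule.smul_induction_on' with
  | smul r hr w _ =>
    rw [← IsScalarTower.algebraMap_smul A r w, map_smul]
    clear h
    induction w with
    | zero => simp
    | tmul p m =>
      rw [LinearMap.lTensor_tmul, ← TensorProduct.tmul_smul, ← map_smul, Submodule.mkQ_apply,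
        (Submodule.Quotient.mk_eq_zero J).2 (Submodule.smul_mem_smul (Ideal.mem_map_of_mem _ hr) Submodule.mem_top),
        TensorProduct.tmul_zero]
    | add v w hv hw => rw [map_add, smul_add, hv trivial, hw trivial, add_zero]
  | add a _ b _ ha hb => rw [map_add, ha, hb, add_zero]

end Algebra

variable {X Y Z : Scheme.{u}}

/-- The stalk of `P ⊗ q^*G` is `P_x ⊗ G_(q x)`, over the stalk of the target. -/
theorem exists_stalk_tensor_equiv (q : X ⟶ Y) (h : Y ⟶ Z) (M : X.Modules) (G : Y.Modules) (x : X) :
    letI := FlatMod.moduleStalkOver q M x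
    letI : Module (Z.presheaf.stalk (h (q x))) (M.presheaf.stalk x) :=
      Module.compHom _ ((q.stalkMap x).hom.comp (h.stalkMap (q x)).hom)
    letI := FlatMod.moduleStalkOver h G (q x)
    letI : Algebra (Z.presheaf.stalk (h (q x))) (Y.presheaf.stalk (q x)) := (h.stalkMap (q x)).hom.toAlgebra
    haveI : IsScalarTower (Z.presheaf.stalk (h (q x))) (Y.presheaf.stalk (q x)) (M.presheaf.stalk x) :=
      .of_algebraMap_smul fun _ _ => rfl
    letI : Module (Z.presheaf.stalk (h (q x)))
        ((CohB1.tensorMod M ((Scheme.Modules.pullback q).obj G)).presheaf.stalk x) :=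
      FlatMod.moduleStalkOver (q ≫ h) _ x
    Nonempty ((M.presheaf.stalk x ⊗[Y.presheaf.stalk (q x)] G.presheaf.stalk (q x)) ≃ₗ[Z.presheaf.stalk (h (q x))]
      (CohB1.tensorMod M ((Scheme.Modules.pullback q).obj G)).presheaf.stalk x) := by
  letI := FlatMod.moduleStalkOver q M x
  letI : Module (Z.presheaf.stalk (h (q x))) (M.presheaf.stalk x) :=
    Module.compHom _ ((q.stalkMap x).hom.comp (h.stalkMap (q x)).hom)
  letI : Algebra (Z.presheaf.stalk (h (q x))) (Y.presheaf.stalk (q x)) := (h.stalkMap (q x)).hom.toAlgebra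
  letI := Groth.QCohMod.stalkAlg q x
  haveI : IsScalarTower (Y.presheaf.stalk (q x)) (X.presheaf.stalk x) (M.presheaf.stalk x) :=
    .of_algebraMap_smul fun _ _ => rfl
  haveI : IsScalarTower (Z.presheaf.stalk (h (q x))) (Y.presheaf.stalk (q x)) (M.presheaf.stalk x) :=
    .of_algebraMap_smul fun _ _ => rfl
  let T := (CohB1.tensorMod M ((Scheme.Modules.pullback q).obj G)).presheaf.stalk x
  let e : (M.presheaf.stalk x ⊗[Y.presheaf.stalk (q x)] G.presheaf.stalk (q x)) ≃ₗ[X.presheaf.stalk x] T :=
    (AlgebraTensorModule.cancelBaseChange (Y.presheaf.stalk (q x)) (X.presheaf.stalk x) (X.presheaf.stalk x)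
      (M.presheaf.stalk x) (G.presheaf.stalk (q x))).symm ≪≫ₗ
    TensorProduct.congr (LinearEquiv.refl _ _) (Groth.QCohMod.pullStalkEquiv q G x) ≪≫ₗ
      Groth.QCohMod.stalkTensorEquiv M ((Scheme.Modules.pullback q).obj G) x
  letI : Module (Z.presheaf.stalk (h (q x))) T :=
    FlatMod.moduleStalkOver (q ≫ h) _ x
  refine ⟨{ e.toAddEquiv with map_smul' := fun r z => ?_ }⟩
  show e (r • z) = (q ≫ h).stalkMap x r • e z
  have hr : r • z = ((q ≫ h).stalkMap x r : X.presheaf.stalk x) • z := by
    induction z with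
    | zero => simp
    | tmul p m =>
      rw [TensorProduct.smul_tmul', TensorProduct.smul_tmul']
      congr 1
      rw [Scheme.Hom.stalkMap_comp]
      rfl
    | add v w hv hw => simp only [smul_add, hv, hw]
  rw [hr, map_smul]

theorem isFlatOverAt_tensor (q : X ⟶ Y) (h : Y ⟶ Z) (M : X.Modules) (G : Y.Modules) (x : X)
    (hM : FlatMod.IsFlatOverAt q M x) (hG : FlatMod.IsFlatOverAt h G (q x)) :
    FlatMod.IsFlatOverAt (q ≫ h) (CohB1.tensorMod M ((Scheme.Modules.pullback q).obj G)) x := by
  obtain ⟨e⟩ := exists_stalk_tensor_equiv q h M G x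
  letI := FlatMod.moduleStalkOver q M x
  letI : Module (Z.presheaf.stalk (h (q x))) (M.presheaf.stalk x) :=
    Module.compHom _ ((q.stalkMap x).hom.comp (h.stalkMap (q x)).hom)
  letI := FlatMod.moduleStalkOver h G (q x)
  letI : Algebra (Z.presheaf.stalk (h (q x))) (Y.presheaf.stalk (q x)) := (h.stalkMap (q x)).hom.toAlgebra
  haveI : IsScalarTower (Z.presheaf.stalk (h (q x))) (Y.presheaf.stalk (q x)) (M.presheaf.stalk x) :=
    .of_algebraMap_smul fun _ _ => rfl
  haveI : IsScalarTower (Z.presheaf.stalk (h (q x))) (Y.presheaf.stalk (q x)) (G.presheaf.stalk (q x)) :=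
    .of_algebraMap_smul fun _ _ => rfl
  haveI : Module.Flat (Y.presheaf.stalk (q x)) (M.presheaf.stalk x) := hM
  haveI : Module.Flat (Z.presheaf.stalk (h (q x))) (G.presheaf.stalk (q x)) := hG
  letI : Module (Z.presheaf.stalk (h (q x)))
      ((CohB1.tensorMod M ((Scheme.Modules.pullback q).obj G)).presheaf.stalk x) :=
    FlatMod.moduleStalkOver (q ≫ h) _ x
  haveI := flat_tensor_of_flat (R := Z.presheaf.stalk (h (q x))) (A := Y.presheaf.stalk (q x))
    (P := M.presheaf.stalk x) (M := G.presheaf.stalk (q x))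
  exact @Module.Flat.of_linearEquiv (Z.presheaf.stalk (h (q x))) _ _ _ _ _ _ _ this e.symm

theorem redNonzero_tensor_imp (q : X ⟶ Y) (h : Y ⟶ Z) (M : X.Modules) (G : Y.Modules) (x : X)
    (hT : RedNonzero (q ≫ h) (CohB1.tensorMod M ((Scheme.Modules.pullback q).obj G)) x) :
    RedNonzero h G (q x) := by
  obtain ⟨e⟩ := exists_stalk_tensor_equiv q h M G x
  intro hG
  apply hT
  letI := FlatMod.moduleStalkOver q M x
  letI : Module (Z.presheaf.stalk (h (q x))) (M.presheaf.stalk x) :=
    Module.compHom _ ((q.stalkMap x).hom.comp (h.stalkMap (q x)).hom)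
  letI := FlatMod.moduleStalkOver h G (q x)
  letI : Algebra (Z.presheaf.stalk (h (q x))) (Y.presheaf.stalk (q x)) := (h.stalkMap (q x)).hom.toAlgebra
  haveI : IsScalarTower (Z.presheaf.stalk (h (q x))) (Y.presheaf.stalk (q x)) (M.presheaf.stalk x) :=
    .of_algebraMap_smul fun _ _ => rfl
  haveI : IsScalarTower (Z.presheaf.stalk (h (q x))) (Y.presheaf.stalk (q x)) (G.presheaf.stalk (q x)) :=
    .of_algebraMap_smul fun _ _ => rfl
  letI : Module (Z.presheaf.stalk (h (q x)))
      ((CohB1.tensorMod M ((Scheme.Modules.pullback q).obj G)).presheaf.stalk x) :=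
    FlatMod.moduleStalkOver (q ≫ h) _ x
  have := congrArg (Submodule.map e.toLinearMap) (smul_top_tensor_of_smul_top (A := Y.presheaf.stalk (q x))
    (P := M.presheaf.stalk x) (M := G.presheaf.stalk (q x)) (maximalIdeal (Z.presheaf.stalk (h (q x)))) hG)
  rw [Submodule.map_smul'', Submodule.map_top, LinearEquiv.range] at this
  exact this

theorem tensor_of_redNonzero (q : X ⟶ Y) (h : Y ⟶ Z) (M : X.Modules) (G : Y.Modules) (x : X)
    (hM : FlatMod.IsFlatOverAt q M x) (hne : RedNonzero q M x) :
    (FlatMod.IsFlatOverAt (q ≫ h) (CohB1.tensorMod M ((Scheme.Modules.pullback q).obj G)) x →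
      FlatMod.IsFlatOverAt h G (q x)) ∧
    (RedNonzero h G (q x) →
      RedNonzero (q ≫ h) (CohB1.tensorMod M ((Scheme.Modules.pullback q).obj G)) x) := by
  obtain ⟨e⟩ := exists_stalk_tensor_equiv q h M G x
  letI := FlatMod.moduleStalkOver q M x
  letI : Module (Z.presheaf.stalk (h (q x))) (M.presheaf.stalk x) :=
    Module.compHom _ ((q.stalkMap x).hom.comp (h.stalkMap (q x)).hom)
  letI := FlatMod.moduleStalkOver h G (q x)
  letI : Algebra (Z.presheaf.stalk (h (q x))) (Y.presheaf.stalk (q x)) := (h.stalkMap (q x)).hom.toAlgebra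
  haveI : IsScalarTower (Z.presheaf.stalk (h (q x))) (Y.presheaf.stalk (q x)) (M.presheaf.stalk x) :=
    .of_algebraMap_smul fun _ _ => rfl
  haveI : IsScalarTower (Z.presheaf.stalk (h (q x))) (Y.presheaf.stalk (q x)) (G.presheaf.stalk (q x)) :=
    .of_algebraMap_smul fun _ _ => rfl
  haveI : Module.Flat (Y.presheaf.stalk (q x)) (M.presheaf.stalk x) := hM
  haveI : Module.FaithfullyFlat (Y.presheaf.stalk (q x)) (M.presheaf.stalk x) :=
    { submodule_ne_top := fun m hm => IsLocalRing.eq_maximalIdeal hm ▸ hne }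
  letI : Module (Z.presheaf.stalk (h (q x)))
      ((CohB1.tensorMod M ((Scheme.Modules.pullback q).obj G)).presheaf.stalk x) :=
    FlatMod.moduleStalkOver (q ≫ h) _ x
  refine ⟨fun hT => ?_, fun hG hT => hG ?_⟩
  · haveI : Module.Flat (Z.presheaf.stalk (h (q x)))
        ((CohB1.tensorMod M ((Scheme.Modules.pullback q).obj G)).presheaf.stalk x) := hT
    haveI := Module.Flat.of_linearEquiv e
    exact flat_of_flat_tensor (R := Z.presheaf.stalk (h (q x))) (A := Y.presheaf.stalk (q x))
      (P := M.presheaf.stalk x)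
  · refine smul_top_of_smul_top_tensor (A := Y.presheaf.stalk (q x)) (P := M.presheaf.stalk x) _ ?_
    have := congrArg (Submodule.map e.symm.toLinearMap) hT
    rw [Submodule.map_smul'', Submodule.map_top, LinearEquiv.range] at this
    exact this

end Groth.FBaseGeom
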