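/-
Geometric irreducibility of the total space of a flat map.
-/
import Groth.Agent.VarietyBC.Fibre
import Mathlib.AlgebraicGeometry.Morphisms.UniversallyOpen

open CategoryTheory CategoryTheory.Limits AlgebraicGeometry Topology

universe u

set_option backward.isDefEq.respectTransparency false

namespace Groth.FBaseGeom

open Groth.VarietyBC

/-- A base change of the fibre at `c` along a field-valued point over `c` is irreducible. -/
theorem irreducibleSpace_pullback_of_fibre {X C : Scheme.{u}} (f : X ⟶ C) (c : C)
    [GeometricallyIrreducible (f.fiberToSpecResidueField c)] (L : Type u) [Field L]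
    (y : Spec (CommRingCat.of L) ⟶ C) (c' : C) (hc : c' = c) (φ : C.residueField c' ⟶ CommRingCat.of L)
    (hy : y = Spec.map φ ≫ C.fromSpecResidueField c') : IrreducibleSpace (pullback f y : Scheme.{u}) := by
  subst hc hy
  exact GeometricallyIrreducible.geometrically_irreducibleSpace
    (f := f.fiberToSpecResidueField c') (Spec.map φ)
    (pullback.lift (pullback.fst f _) (pullback.snd f _ ≫ Spec.map φ)
      (by rw [Category.assoc]; exact pullback.condition))
    (pullback.snd f _)
    (IsPullback.of_right (by rw [pullback.lift_fst]; exact IsPullback.of_hasPullback f _)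
      (pullback.lift_snd _ _ _) (IsPullback.of_hasPullback f (C.fromSpecResidueField c')))

/-- A flat map with geometrically irreducible generic fibre to a geometrically irreducible base. -/
theorem geometricallyIrreducible_of_flat {k : Type u} [Field k] {X C : Scheme.{u}}
    [X.Over (Spec (CommRingCat.of k))] [C.Over (Spec (CommRingCat.of k))] (f : X ⟶ C)
    (w : f ≫ (C ↘ Spec (CommRingCat.of k)) = X ↘ Spec (CommRingCat.of k)) [IrreducibleSpace C]
    [GeometricallyIrreducible (C ↘ Spec (CommRingCat.of k))] [Flat f]
    [GeometricallyIrreducible (f.fiberToSpecResidueField (genericPoint C))] :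
    GeometricallyIrreducible (X ↘ Spec (CommRingCat.of k)) := by
  refine geometricallyIrreducible_iff_forall.mpr fun K _ _ => ?_
  have : IrreducibleSpace (Curv2.bc k C K) := geometricallyIrreducible_iff_forall.mp ‹_› K
  let q : Curv2.bc k X K ⟶ Curv2.bc k C K :=
    pullback.lift (Curv2.bcFst k X K ≫ f) (Curv2.bcSnd k X K)
      (by rw [Category.assoc, w]; exact pullback.condition)
  have hq : IsPullback q (Curv2.bcFst k X K) (Curv2.bcFst k C K) f :=
    IsPullback.of_right (by
        rw [show q ≫ Curv2.bcSnd k C K = Curv2.bcSnd k X K from pullback.lift_snd _ _ _, w]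
        exact (IsPullback.of_hasPullback _ _).flip)
      (pullback.lift_fst _ _ _) (IsPullback.of_hasPullback _ _).flip
  have : Flat q := MorphismProperty.of_isPullback hq.flip ‹Flat f›
  let ξ : Curv2.bc k C K := genericPoint (Curv2.bc k C K)
  let s := (Curv2.bc k C K).fromSpecResidueField ξ
  have hirr : IrreducibleSpace (pullback f (s ≫ Curv2.bcFst k C K) : Scheme.{u}) :=
    irreducibleSpace_pullback_of_fibre f (genericPoint C) _ _ (Curv2.bcFst k C K ξ) (bcFst_genericPoint K)
      ((Curv2.bcFst k C K).residueFieldMap ξ)
      ((Curv2.bcFst k C K).SpecMap_residueFieldMap_fromSpecResidueField ξ).symm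
  have hfib : IrreducibleSpace (q.fiber ξ) := by
    let e := IsPullback.isoPullback ((IsPullback.of_hasPullback q s).paste_horiz hq.flip)
    exact e.hom.homeomorph.irreducibleSpace_iff.mpr hirr
  have hI : IsIrreducible (q ⁻¹' {ξ}) := by
    rw [← q.range_fiberι, ← Set.image_univ]
    exact (IrreducibleSpace.isIrreducible_univ _).image _ (q.fiberι ξ).continuous.continuousOn
  have hd : closure (q ⁻¹' {ξ}) = Set.univ := Set.eq_univ_of_forall fun x => by
    obtain ⟨g, hg, hgξ⟩ := Flat.generalizingMap q (genericPoint_specializes (q x) : ξ ⤳ q x)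
    exact hg.mem_closed isClosed_closure (subset_closure hgξ)
  rw [irreducibleSpace_def, Set.top_eq_univ, ← hd]
  exact hI.closure

end Groth.FBaseGeom
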