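import Groth.Agent.FBaseGeom.ReducedMod
import Mathlib.FieldTheory.SeparableClosure
import Mathlib.FieldTheory.IsSepClosed

/-! Integral modules under base change of the field. -/

set_option autoImplicit false
set_option linter.style.haveILetI false
set_option backward.isDefEq.respectTransparency false
set_option maxHeartbeats 800000

universe u

open CategoryTheory CategoryTheory.Limits AlgebraicGeometry TensorProduct

namespace Groth.FBaseGeom

variable {k : Type u} [Field k] {X : Scheme.{u}} (f : X ⟶ Spec (CommRingCat.of k))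

theorem mem_ass_fibPt_of_finite (x : X) (k' : Type u) [Field k'] [Algebra k k'] [FiniteDimensional k k']
    (w : fibPt f (Spec.map (CommRingCat.ofHom (algebraMap k k'))) x) :
    w ∈ AssSch.Ass (Coh.structureModule (fibPt f (Spec.map (CommRingCat.ofHom (algebraMap k k'))) x)) := by
  let σ := Spec.map (CommRingCat.ofHom (algebraMap k k'))
  haveI : IsFinite σ := (IsFinite.SpecMap_iff _).mpr (RingHom.finite_algebraMap.mpr inferInstance)
  haveI : IsFinite (pullback.fst (X.fromSpecResidueField x ≫ f) σ) :=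
    MorphismProperty.pullback_fst _ _ inferInstance
  haveI : IsLocallyNoetherian (fibPt f σ x) :=
    LocallyOfFiniteType.isLocallyNoetherian (pullback.fst (X.fromSpecResidueField x ≫ f) σ)
  exact Groth.SchemeMorphisms.mem_ass_iff_weak.mpr (Groth.Divisors.weakAss_structure_of_maximal
    fun v hv => Groth.SchemeMorphisms.eq_of_specializes_of_isIntegralHom (pullback.fst _ σ) hv
      (Subsingleton.elim _ _))

theorem nonempty_fibPt (x : X) (K : Type u) [Field K] [Algebra k K] :
    Nonempty (fibPt f (Spec.map (CommRingCat.ofHom (algebraMap k K))) x) := by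
  haveI : Surjective (Spec.map (CommRingCat.ofHom (algebraMap k K))) :=
    ⟨fun p => ⟨default, Subsingleton.elim _ _⟩⟩
  haveI : Surjective (pullback.fst (X.fromSpecResidueField x ≫ f)
      (Spec.map (CommRingCat.ofHom (algebraMap k K)))) := MorphismProperty.pullback_fst _ _ inferInstance
  exact ⟨((pullback.fst (X.fromSpecResidueField x ≫ f) _).surjective default).choose⟩

/-- Irreducibility of all base changes of a point follows from the finite ones. -/
theorem irreducibleSpace_fibPt (x : X)
    (h : ∀ (k' : Type u) [Field k'] [Algebra k k'] [FiniteDimensional k k'],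
      Subsingleton (fibPt f (Spec.map (CommRingCat.ofHom (algebraMap k k'))) x))
    (K : Type u) [Field K] [Algebra k K] :
    IrreducibleSpace (fibPt f (Spec.map (CommRingCat.ofHom (algebraMap k K))) x) := by
  obtain ⟨φ, hφ⟩ := Spec.map_surjective (X.fromSpecResidueField x ≫ f)
  let L := X.residueField x
  letI : Algebra k L := φ.hom.toAlgebra
  have e : ∀ (E : Type u) [Field E] [Algebra k E],
      fibPt f (Spec.map (CommRingCat.ofHom (algebraMap k E))) x ≅ Spec (CommRingCat.of (E ⊗[k] L)) :=
    fun E _ _ => pullback.congrHom hφ.symm rfl ≪≫ pullbackSymmetry _ _ ≪≫ pullbackSpecIso k E L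
  have hfin : ∀ (E : Type u) [Field E] [Algebra k E] [FiniteDimensional k E],
      (nilradical (E ⊗[k] L)).IsPrime := fun E _ _ _ => by
    haveI := h E
    haveI := nonempty_fibPt f x E
    haveI : IrreducibleSpace (fibPt f (Spec.map (CommRingCat.ofHom (algebraMap k E))) x) :=
      { isPreirreducible_univ := Set.subsingleton_univ.isPreirreducible
        toNonempty := inferInstance }
    exact PrimeSpectrum.irreducibleSpace_iff_isPrime_nilradical.mp
      ((e E).hom.homeomorph.irreducibleSpace_iff.mp inferInstance)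
  let Ω := SeparableClosure k
  have hΩ : IrreducibleSpace (PrimeSpectrum (Ω ⊗[k] L)) :=
    PrimeSpectrum.irreducibleSpace_iff_isPrime_nilradical.mpr
      (Groth.Calg5.nilradical_isPrime_tensor_of_finite fun E hE => by haveI := hE; exact hfin E)
  exact (e K).hom.homeomorph.irreducibleSpace_iff.mpr (Groth.Calg5.irreducibleSpace_of_sepClosed hΩ)

theorem isReducedMod_of_unique {Z : Scheme.{u}} {M : Z.Modules} {z : Z} (hz : AssSch.Ass M = {z})
    (hl : Module.length (Z.presheaf.stalk z) (M.presheaf.stalk z) = 1) : AssSch.IsReducedMod M := by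
  refine ⟨fun a ha b hb _ => ?_, fun a ha => ?_⟩
  · rw [hz, Set.mem_singleton_iff] at ha hb
    rw [ha, hb]
  · rw [hz, Set.mem_singleton_iff] at ha
    subst ha
    exact hl

theorem isIntegralMod_bc_of_finite [IsLocallyNoetherian X] (F : X.Modules)
    (h : ∀ (k' : Type u) [Field k'] [Algebra k k'] [FiniteDimensional k k'],
      ∃ x' : ↥(FBase.bc f k'), AssSch.Ass ((Scheme.Modules.pullback (FBase.bcπ f k')).obj F) = {x'} ∧
        Module.length ((FBase.bc f k').presheaf.stalk x')
          (((Scheme.Modules.pullback (FBase.bcπ f k')).obj F).presheaf.stalk x') = 1)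
    (K : Type u) [Field K] [Algebra k K] :
    ∃ x' : ↥(FBase.bc f K), AssSch.Ass ((Scheme.Modules.pullback (FBase.bcπ f K)).obj F) = {x'} ∧
      Module.length ((FBase.bc f K).presheaf.stalk x')
        (((Scheme.Modules.pullback (FBase.bcπ f K)).obj F).presheaf.stalk x') = 1 := by
  let σ := fun (E : Type u) [Field E] [Algebra k E] => Spec.map (CommRingCat.ofHom (algebraMap k E))
  have hred : ∀ (k' : Type u) [Field k'] [Algebra k k'] [FiniteDimensional k k'],
      AssSch.IsReducedMod ((Scheme.Modules.pullback (FBase.bcπ f k')).obj F) := fun k' _ _ _ => by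
    obtain ⟨z, hz, hl⟩ := h k'
    exact isReducedMod_of_unique hz hl
  have hF : AssSch.IsReducedMod F := isReducedMod_of_bc_self f F (hred k)
  obtain ⟨z₀, hz₀, -⟩ := h k
  let ξ := pullback.fst f (σ k) z₀
  have hξ : ξ ∈ AssSch.Ass F := by
    obtain ⟨w, hw⟩ := exists_fibPt f (σ k) z₀
    exact ((mem_ass_pullback_fibPt_iff f (σ k) F ξ w).mp (hw.symm ▸ hz₀.ge rfl)).1
  have huniq : ∀ a ∈ AssSch.Ass F, a = ξ := fun a ha => by
    obtain ⟨w⟩ := nonempty_fibPt f a k
    have hmem : fibPtι f (σ k) a w ∈ AssSch.Ass ((Scheme.Modules.pullback (pullback.fst f (σ k))).obj F) :=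
      (mem_ass_pullback_fibPt_iff f (σ k) F a w).mpr ⟨ha, mem_ass_fibPt_of_finite f a k w⟩
    rw [← fst_fibPtι f (σ k) a w, show fibPtι f (σ k) a w = z₀ from hz₀.le hmem]
  have hsub : ∀ (k' : Type u) [Field k'] [Algebra k k'] [FiniteDimensional k k'],
      Subsingleton (fibPt f (σ k') ξ) := fun k' _ _ _ => ⟨fun w₁ w₂ => by
    obtain ⟨z, hz, -⟩ := h k'
    haveI : IsPreimmersion (fibPtι f (σ k') ξ) :=
      MorphismProperty.of_isPullback (P := @IsPreimmersion) (isPullback_fibPt f (σ k') ξ).flip inferInstance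
    have hm : ∀ w, fibPtι f (σ k') ξ w = z := fun w =>
      hz.le ((mem_ass_pullback_fibPt_iff f (σ k') F ξ w).mpr ⟨hξ, mem_ass_fibPt_of_finite f ξ k' w⟩)
    exact (fibPtι f (σ k') ξ).isEmbedding.injective ((hm w₁).trans (hm w₂).symm)⟩
  haveI : IrreducibleSpace (fibPt f (σ K) ξ) := irreducibleSpace_fibPt f ξ hsub K
  have hgeom : ∀ x ∈ AssSch.Ass F, GeometricallyReduced (X.fromSpecResidueField x ≫ f) :=
    fun x hx => geometricallyReduced_of_isReducedMod f F hx fun k' _ _ _ _ => hred k'
  have hFK := isReducedMod_pullback_of_geom f (σ K) F hF hgeom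
  haveI := isReduced_fibPt_of_geom f (σ K) ξ (hgeom ξ hξ)
  let η := genericPoint (fibPt f (σ K) ξ)
  have hη : fibPtι f (σ K) ξ η ∈ AssSch.Ass ((Scheme.Modules.pullback (pullback.fst f (σ K))).obj F) :=
    (mem_ass_pullback_fibPt_iff f (σ K) F ξ η).mpr
      ⟨hξ, mem_ass_of_isField (isField_stalk_of_maximal fun v hv => hv.antisymm (genericPoint_specializes v) |>.eq)⟩
  refine ⟨fibPtι f (σ K) ξ η, ?_, hFK.2 _ hη⟩
  refine Set.eq_singleton_iff_unique_mem.mpr ⟨hη, fun z hz => ?_⟩
  obtain ⟨w, hw⟩ := exists_fibPt f (σ K) z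
  have hfz : pullback.fst f (σ K) z = ξ :=
    huniq _ ((mem_ass_pullback_fibPt_iff f (σ K) F _ w).mp (hw.symm ▸ hz)).1
  obtain ⟨w', rfl⟩ : ∃ w', fibPtι f (σ K) ξ w' = z := by rw [← hfz]; exact exists_fibPt f (σ K) z
  rw [← noEmbedded_fibPt f (σ K) ξ w' η ((mem_ass_pullback_fibPt_iff f (σ K) F ξ w').mp hz).2
    (genericPoint_specializes w')]

end Groth.FBaseGeom
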